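/-
The Cayley transform between unipotent isometries and skew nilpotent maps.
-/
import Cfsg.Agent.Lib.Classical22.PrimeOrderSympUnipotent

set_option autoImplicit false

namespace CfsgLib.Classical.SpOrderP

open Module

universe u

variable {F : Type u} [Field F] {V : Type u} [AddCommGroup V] [Module F V]

/-- The Cayley transform. -/
noncomputable def cay (f : Module.End F V) : Module.End F V := (f - 1) * Ring.inverse (f + 1)

theorem cay_unit (h2 : (2 : F) ≠ 0) {f : Module.End F V} {p : ℕ} (hf : (f - 1) ^ p = 0) : IsUnit (f + 1) := by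
  rw [show f + 1 = (f - 1) + algebraMap F (Module.End F V) 2 by rw [map_ofNat, ← one_add_one_eq_two]; abel]
  exact IsNilpotent.isUnit_add_right_of_commute ⟨p, hf⟩ ((isUnit_iff_ne_zero.2 h2).map (algebraMap F (Module.End F V)))
    (Algebra.commute_algebraMap_right _ _)

theorem cay_mul (h2 : (2 : F) ≠ 0) {f : Module.End F V} {p : ℕ} (hf : (f - 1) ^ p = 0) :
    cay f * (f + 1) = f - 1 := by
  rw [cay, mul_assoc, Ring.inverse_mul_cancel _ (cay_unit h2 hf), mul_one]

theorem cay_pow (h2 : (2 : F) ≠ 0) {f : Module.End F V} {p : ℕ} (hf : (f - 1) ^ p = 0) :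
    (cay f) ^ p = 0 ∧ ∀ k, LinearMap.range ((cay f) ^ k) = LinearMap.range ((f - 1) ^ k) := by
  obtain ⟨U, hU⟩ := cay_unit h2 hf
  have hc : Commute (f - 1) (↑U⁻¹ : Module.End F V) := by
    refine Commute.units_inv_right ?_
    rw [hU]
    exact ((Commute.refl f).sub_left (Commute.one_left f)).add_right (Commute.one_right _)
  have he : cay f = (f - 1) * ↑U⁻¹ := by rw [cay, ← hU, Ring.inverse_unit]
  refine ⟨by rw [he, hc.mul_pow, hf, zero_mul], fun k => ?_⟩
  rw [he, hc.mul_pow, Module.End.mul_eq_comp, ← Units.val_pow_eq_pow_val,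
    LinearMap.range_comp_of_range_eq_top _ (LinearMap.range_eq_top.2 ((Module.End.isUnit_iff _).1 (Units.isUnit _)).surjective)]

theorem cay_skew (h2 : (2 : F) ≠ 0) {f : Module.End F V} {p : ℕ} (hf : (f - 1) ^ p = 0) {B : LinearMap.BilinForm F V}
    (hB : ∀ a b, B (f a) (f b) = B a b) (u v : V) : B (cay f u) v = -B u (cay f v) := by
  have hsurj := ((Module.End.isUnit_iff _).1 (cay_unit h2 hf)).surjective
  obtain ⟨a, rfl⟩ := hsurj u
  obtain ⟨b, rfl⟩ := hsurj v
  rw [← Module.End.mul_apply, ← Module.End.mul_apply, cay_mul h2 hf]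
  simp only [LinearMap.sub_apply, LinearMap.add_apply, Module.End.one_apply, map_sub, map_add, hB]
  ring

theorem cay_intertwine (h2 : (2 : F) ≠ 0) {f f' φ : Module.End F V} {p : ℕ} (hf : (f - 1) ^ p = 0)
    (hf' : (f' - 1) ^ p = 0) : φ * cay f = cay f' * φ ↔ φ * f = f' * φ := by
  constructor
  · intro h
    have e : ∀ {g : Module.End F V}, (g - 1) ^ p = 0 → (1 - cay g) * (g + 1) = 2 := fun {g} hg => by
      rw [sub_mul, one_mul, cay_mul h2 hg, ← one_add_one_eq_two]; abel
    have hu : IsUnit (1 - cay f') := IsNilpotent.isUnit_one_sub ⟨p, (cay_pow h2 hf').1⟩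
    have h1 : (1 - cay f') * (φ * (f + 1)) = (1 - cay f') * ((f' + 1) * φ) := by
      rw [← mul_assoc, ← mul_assoc, e hf', show (1 - cay f') * φ = φ * (1 - cay f) by
        rw [sub_mul, mul_sub, one_mul, mul_one, h], mul_assoc, e hf, ← one_add_one_eq_two, mul_add, add_mul,
        one_mul, mul_one]
    have h3 := hu.mul_left_cancel h1
    rw [mul_add, add_mul, mul_one, one_mul] at h3
    exact add_right_cancel h3
  · intro h
    obtain ⟨U, hU⟩ := cay_unit h2 hf
    obtain ⟨U', hU'⟩ := cay_unit h2 hf'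
    have h1 : φ * (U : Module.End F V) = (U' : Module.End F V) * φ := by
      rw [hU, hU', mul_add, add_mul, mul_one, one_mul, h]
    have h3 : φ * (↑U⁻¹ : Module.End F V) = ↑U'⁻¹ * φ := by
      rw [Units.eq_inv_mul_iff_mul_eq, ← mul_assoc, ← h1, mul_assoc, Units.mul_inv, mul_one]
    rw [cay, cay, ← hU, ← hU', Ring.inverse_unit, Ring.inverse_unit, ← mul_assoc, mul_sub, mul_one, h,
      show f' * φ - φ = (f' - 1) * φ by rw [sub_mul, one_mul], mul_assoc, h3, mul_assoc]

theorem exists_cay (h2 : (2 : F) ≠ 0) {y : Module.End F V} {p : ℕ} (hy : y ^ p = 0) {B : LinearMap.BilinForm F V}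
    (hs : ∀ a b, B (y a) b = -B a (y b)) :
    ∃ f : Module.End F V, (f - 1) ^ p = 0 ∧ (∀ a b, B (f a) (f b) = B a b) ∧ cay f = y := by
  obtain ⟨W, hW⟩ : IsUnit (1 - y) := IsNilpotent.isUnit_one_sub ⟨p, hy⟩
  have hc : Commute y (↑W⁻¹ : Module.End F V) := by
    refine Commute.units_inv_right ?_
    rw [hW]
    exact (Commute.one_right y).sub_right (Commute.refl y)
  obtain ⟨f, hf⟩ : ∃ f, f = (1 + y) * (↑W⁻¹ : Module.End F V) := ⟨_, rfl⟩
  have hsub : f - 1 = y * ((2 : F) • (↑W⁻¹ : Module.End F V)) := by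
    have : f - 1 = ((1 + y) - (W : Module.End F V)) * ↑W⁻¹ := by rw [sub_mul, Units.mul_inv, hf]
    rw [this, hW, show (1 + y) - (1 - y) = (2 : F) • y by rw [two_smul]; abel, smul_mul_assoc, mul_smul_comm]
  have hfp : (f - 1) ^ p = 0 := by rw [hsub, (hc.smul_right (2 : F)).mul_pow, hy, zero_mul]
  have hadd : f + 1 = (2 : F) • (↑W⁻¹ : Module.End F V) := by
    have : f + 1 = ((1 + y) + (W : Module.End F V)) * ↑W⁻¹ := by rw [add_mul, Units.mul_inv, hf]
    rw [this, hW, show (1 + y) + (1 - y) = (2 : F) • (1 : Module.End F V) by rw [two_smul]; abel, smul_mul_assoc, one_mul]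
  refine ⟨f, hfp, fun a b => ?_, ?_⟩
  · have hid : ∀ a b, B ((1 + y) a) ((1 + y) b) = B ((1 - y) a) ((1 - y) b) := fun a b => by
      simp only [LinearMap.sub_apply, LinearMap.add_apply, Module.End.one_apply, map_sub, map_add, hs]
      ring
    rw [hf, Module.End.mul_apply, Module.End.mul_apply, hid, ← hW, ← Module.End.mul_apply, ← Module.End.mul_apply,
      Units.mul_inv]
    rfl
  · refine (cay_unit h2 hfp).mul_right_cancel ?_
    rw [cay_mul h2 hfp, hsub, hadd]

end CfsgLib.Classical.SpOrderP
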