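/-
A non-trivial additive character and its quadratic sums.
-/
import Mathlib

set_option autoImplicit false

namespace CfsgLib.Classical.SpOrderP

variable {F : Type*} [Field F] [Fintype F]

/-- The quadratic sum of a character at a scalar. -/
noncomputable def qSum (ψ : AddChar F ℂ) (c : F) : ℂ := ∑ t : F, ψ (c * t ^ 2)

theorem exists_addChar : ∃ ψ : AddChar F ℂ, ψ.IsPrimitive := by
  haveI : Fact (ringChar F).Prime := ⟨CharP.char_is_prime F _⟩
  letI : Algebra (ZMod (ringChar F)) F := ZMod.algebra _ _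
  refine ⟨(ZMod.stdAddChar (N := ringChar F)).compAddMonoidHom (Algebra.trace (ZMod (ringChar F)) F).toAddMonoidHom,
    AddChar.IsPrimitive.of_ne_one (AddChar.ne_one_iff.2 ?_)⟩
  obtain ⟨a, ha⟩ := FiniteField.trace_to_zmod_nondegenerate F (one_ne_zero (α := F))
  rw [one_mul] at ha
  exact ⟨a, fun h => ha (ZMod.injective_stdAddChar (h.trans (AddChar.map_zero_eq_one _).symm))⟩

variable {ψ : AddChar F ℂ}

theorem qSum_mul_sq (c : F) {t : F} (ht : t ≠ 0) : qSum ψ (c * t ^ 2) = qSum ψ c := by
  refine (Fintype.sum_equiv (Equiv.mulLeft₀ t ht) _ _ fun x => ?_).trans rfl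
  congr 1
  show c * t ^ 2 * x ^ 2 = c * (t * x) ^ 2
  ring

theorem qSum_ne_zero (hψ : ψ.IsPrimitive) (h2 : (2 : F) ≠ 0) {c : F} (hc : c ≠ 0) : qSum ψ c ≠ 0 := by
  classical
  suffices h : qSum ψ c * qSum ψ (-c) = Fintype.card F from fun h0 => by
    rw [h0, zero_mul] at h
    exact Fintype.card_ne_zero (α := F) (by exact_mod_cast h.symm)
  rw [qSum, qSum, Finset.sum_mul_sum, ← Fintype.sum_prod_type']
  let E : F × F ≃ F × F :=
    { toFun := fun p => (c * (p.1 - p.2), p.1 + p.2)
      invFun := fun p => ((p.1 / c + p.2) / 2, (p.2 - p.1 / c) / 2)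
      left_inv := fun p => by
        refine Prod.ext ?_ ?_ <;> simp only <;> field_simp <;> ring
      right_inv := fun p => by
        refine Prod.ext ?_ ?_ <;> simp only <;> field_simp <;> ring }
  rw [Fintype.sum_equiv E _ (fun p => ψ (p.1 * p.2)) fun p => by
    rw [← AddChar.map_add_eq_mul]; congr 1; show _ = c * (p.1 - p.2) * (p.1 + p.2); ring]
  rw [Fintype.sum_prod_type, Finset.sum_comm]
  simp only [AddChar.sum_mulShift _ hψ]
  rw [Finset.sum_eq_single (0 : F) (fun b _ hb => by rw [if_neg hb]; simp) (by simp), if_pos rfl]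

theorem qSum_flip (hψ : ψ.IsPrimitive) (h2 : (2 : F) ≠ 0) {δ : F} (hδ : ¬ IsSquare δ) :
    qSum ψ δ = -qSum ψ 1 := by
  classical
  have hδ0 : δ ≠ 0 := fun h => hδ ⟨0, by rw [h, mul_zero]⟩
  have hchar : ringChar F ≠ 2 := fun h => h2 (by
    haveI : CharP F 2 := ringChar.of_eq h
    exact_mod_cast CharP.cast_eq_zero F 2)
  have hval : ∀ x : F, x ≠ 0 → ((Finset.univ.filter fun t : F => t ^ 2 = x).card +
      (Finset.univ.filter fun t : F => δ * t ^ 2 = x).card = 2) := fun x hx => by
    have hcount : ∀ a : F, a ≠ 0 → IsSquare a → (Finset.univ.filter fun t : F => t ^ 2 = a).card = 2 := by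
      rintro a ha ⟨r, rfl⟩
      have hr : r ≠ 0 := fun h => ha (by rw [h, mul_zero])
      rw [show (Finset.univ.filter fun t : F => t ^ 2 = r * r) = {r, -r} by
        ext t; simp [sq, mul_self_eq_mul_self_iff]]
      exact Finset.card_pair fun h => hr (by
        have : (2 : F) * r = 0 := by linear_combination h
        exact (mul_eq_zero.1 this).resolve_left h2)
    have hzero : ∀ a : F, ¬ IsSquare a → (Finset.univ.filter fun t : F => t ^ 2 = a).card = 0 := fun a ha => by
      rw [Finset.card_eq_zero, Finset.filter_eq_empty_iff]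
      exact fun t _ ht => ha ⟨t, by rw [← ht, sq]⟩
    rw [show (Finset.univ.filter fun t : F => δ * t ^ 2 = x) = Finset.univ.filter fun t : F => t ^ 2 = x / δ by
      ext t; simp [eq_div_iff hδ0, mul_comm]]
    by_cases hs : IsSquare x
    · rw [hcount x hx hs, hzero (x / δ) fun h => hδ ?_]
      have : δ = x / (x / δ) := by field_simp
      rw [this]
      exact hs.div h
    · rw [hzero x hs, hcount (x / δ) (div_ne_zero hx hδ0) ?_]
      rw [FiniteField.isSquare_iff hchar (div_ne_zero hx hδ0), div_pow,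
        (FiniteField.pow_dichotomy hchar hx).resolve_left fun h => hs ((FiniteField.isSquare_iff hchar hx).2 h),
        (FiniteField.pow_dichotomy hchar hδ0).resolve_left fun h => hδ ((FiniteField.isSquare_iff hchar hδ0).2 h)]
      norm_num
  have hψ1 : ψ ≠ 1 := fun h => by
    have := hψ (one_ne_zero (α := F))
    exact this (by rw [h]; ext; simp)
  have key : qSum ψ 1 + qSum ψ δ = 2 * ∑ x : F, ψ x := by
    have hfib : ∀ d : F, qSum ψ d = ∑ x : F, ((Finset.univ.filter fun t : F => d * t ^ 2 = x).card : ℂ) * ψ x := fun d => by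
      rw [qSum, ← Finset.sum_fiberwise (Finset.univ : Finset F) (fun t => d * t ^ 2)]
      refine Finset.sum_congr rfl fun x _ => ?_
      rw [Finset.sum_congr rfl (fun t ht => by rw [(Finset.mem_filter.1 ht).2]), Finset.sum_const, nsmul_eq_mul]
    rw [hfib, hfib, ← Finset.sum_add_distrib, Finset.mul_sum]
    refine Finset.sum_congr rfl fun x _ => ?_
    rw [← add_mul, ← Nat.cast_add]
    congr 1
    by_cases hx : x = 0
    · subst hx
      rw [show (Finset.univ.filter fun t : F => 1 * t ^ 2 = 0) = {0} by ext t; simp,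
        show (Finset.univ.filter fun t : F => δ * t ^ 2 = 0) = {0} by ext t; simp [hδ0]]
      simp
    · simp only [one_mul]
      rw [hval x hx]
      simp
  rw [AddChar.sum_eq_zero_of_ne_one hψ1, mul_zero] at key
  exact eq_neg_of_add_eq_zero_right key

theorem qSum_class (hψ : ψ.IsPrimitive) (h2 : (2 : F) ≠ 0) {a b : F} (ha : a ≠ 0) (hb : b ≠ 0) :
    qSum ψ a = qSum ψ b ↔ IsSquare (a * b) := by
  have hchar : ringChar F ≠ 2 := fun h => h2 (by
    haveI : CharP F 2 := ringChar.of_eq h
    exact_mod_cast CharP.cast_eq_zero F 2)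
  have hone : ∀ x : F, x ≠ 0 → IsSquare x → qSum ψ x = qSum ψ 1 := by
    rintro x hx ⟨r, rfl⟩
    rw [← qSum_mul_sq 1 (t := r) fun h => hx (by rw [h, mul_zero])]
    congr 1; ring
  have hne : qSum ψ 1 ≠ -qSum ψ 1 := fun h => qSum_ne_zero hψ h2 one_ne_zero (by linear_combination h / 2)
  have hchi : ∀ x : F, x ≠ 0 → (IsSquare x ↔ x ^ (Fintype.card F / 2) = 1) := fun x => FiniteField.isSquare_iff hchar
  have hm : (-1 : F) ≠ 1 := fun h => h2 (by linear_combination -h)
  rw [hchi _ (mul_ne_zero ha hb), mul_pow]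
  by_cases hsa : IsSquare a <;> by_cases hsb : IsSquare b
  · rw [hone a ha hsa, hone b hb hsb, (hchi a ha).1 hsa, (hchi b hb).1 hsb]; simp
  · rw [hone a ha hsa, qSum_flip hψ h2 hsb, (hchi a ha).1 hsa,
      (FiniteField.pow_dichotomy hchar hb).resolve_left (mt (hchi b hb).2 hsb)]
    simp [hne, hm]
  · rw [qSum_flip hψ h2 hsa, hone b hb hsb, (hchi b hb).1 hsb,
      (FiniteField.pow_dichotomy hchar ha).resolve_left (mt (hchi a ha).2 hsa)]
    simp [hne.symm, hm]
  · rw [qSum_flip hψ h2 hsa, qSum_flip hψ h2 hsb,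
      (FiniteField.pow_dichotomy hchar ha).resolve_left (mt (hchi a ha).2 hsa),
      (FiniteField.pow_dichotomy hchar hb).resolve_left (mt (hchi b hb).2 hsb)]
    simp

end CfsgLib.Classical.SpOrderP
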