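/-
Normalised chains of a skew nilpotent map, matched frames, and quadratic sums on the layers.
-/
import Cfsg.Agent.Lib.Classical.SpOrderP.Gauss
import Cfsg.Agent.Lib.Classical22.PrimeOrderSympBlocks

set_option autoImplicit false

namespace CfsgLib.Classical.SpOrderP

open Module CfsgLib.Classical22.PrimeMaps CfsgLib.Classical22.PrimeMaps.Symp

universe u

variable {F : Type u} [Field F] {V : Type u} [AddCommGroup V] [Module F V]
  {V' : Type u} [AddCommGroup V'] [Module F V']

/-- Frames with the same shift and the same Gram matrix. -/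
def Matched (B : LinearMap.BilinForm F V) (y : Module.End F V) (X : Submodule F V)
    (B' : LinearMap.BilinForm F V') (y' : Module.End F V') (X' : Submodule F V') : Prop :=
  ∃ (I : Type) (_ : Fintype I) (w : I → V) (w' : I → V') (τ : I → Option I),
    LinearIndependent F w ∧ LinearIndependent F w' ∧ Submodule.span F (Set.range w) = X ∧
    Submodule.span F (Set.range w') = X' ∧ (∀ i j, B' (w' i) (w' j) = B (w i) (w j)) ∧
    (∀ i, y (w i) = (τ i).elim 0 w) ∧ ∀ i, y' (w' i) = (τ i).elim 0 w'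

/-- The shift on coefficients. -/
noncomputable def shiftCo (F : Type u) [Field F] {I : Type} [Fintype I] (τ : I → Option I) :
    Module.End F (I → F) :=
  Fintype.linearCombination F fun i => (τ i).elim 0 fun j => (Pi.basisFun F I) j

variable {B : LinearMap.BilinForm F V} {y : Module.End F V}
  {B' : LinearMap.BilinForm F V'} {y' : Module.End F V'}

theorem lc_shift {I : Type} [Fintype I] {w : I → V} {τ : I → Option I} (h : ∀ i, y (w i) = (τ i).elim 0 w) :
    ∀ (m : ℕ) (a : I → F), (y ^ m) (Fintype.linearCombination F w a) =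
      Fintype.linearCombination F w ((shiftCo F τ ^ m) a) := by
  classical
  have h1 : y ∘ₗ Fintype.linearCombination F w = Fintype.linearCombination F w ∘ₗ shiftCo F τ :=
    (Pi.basisFun F I).ext fun i => by
      rw [LinearMap.comp_apply, LinearMap.comp_apply, Pi.basisFun_apply, Fintype.linearCombination_apply_single,
        one_smul, shiftCo, Fintype.linearCombination_apply_single, one_smul, h]
      cases τ i with
      | none => simp
      | some j => simp [Pi.basisFun_apply, Fintype.linearCombination_apply_single]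
  intro m
  induction m with
  | zero => intro a; rfl
  | succ m ih =>
    intro a
    rw [pow_succ', pow_succ', Module.End.mul_apply, Module.End.mul_apply, ih]
    exact LinearMap.congr_fun h1 _

theorem inv_pow_mem {X : Submodule F V} (hX : Inv y X) : ∀ (k : ℕ), ∀ x ∈ X, (y ^ k) x ∈ X
  | 0, x, hx => hx
  | k + 1, x, hx => by rw [pow_succ', Module.End.mul_apply]; exact hX _ (inv_pow_mem hX k x hx)

theorem bilin_lc {I : Type} [Fintype I] (w : I → V) (a b : I → F) :
    B (Fintype.linearCombination F w a) (Fintype.linearCombination F w b) = ∑ i, ∑ j, a i * (b j * B (w i) (w j)) := by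
  simp only [Fintype.linearCombination_apply, map_sum, LinearMap.sum_apply, map_smul, LinearMap.smul_apply, smul_eq_mul,
    Finset.mul_sum]
  rw [Finset.sum_comm]
  exact Finset.sum_congr rfl fun i _ => Finset.sum_congr rfl fun j _ => by ring

theorem matched_map {X : Submodule F V} {X' : Submodule F V'} (h : Matched B y X B' y' X') :
    ∃ φ : X ≃ₗ[F] X', (∀ a b : X, B' (φ a : V') (φ b) = B a b) ∧
      ∀ (a : X) (ha : y a ∈ X), y' (φ a : V') = φ ⟨y a, ha⟩ := by
  obtain ⟨I, _, w, w', τ, hw, hw', hs, hs', hg, hy, hy'⟩ := h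
  subst hs hs'
  let φ := (Basis.span hw).equiv (Basis.span hw') (Equiv.refl I)
  have hφ : ∀ i, φ (Basis.span hw i) = Basis.span hw' i := fun i => Basis.equiv_apply _ i _ _
  have hL : ∀ a : I → F, (φ ⟨Fintype.linearCombination F w a, by
      rw [← Fintype.range_linearCombination]; exact ⟨a, rfl⟩⟩ : V') = Fintype.linearCombination F w' a := fun a => by
    have e : (⟨Fintype.linearCombination F w a, by
        rw [← Fintype.range_linearCombination]; exact ⟨a, rfl⟩⟩ : Submodule.span F (Set.range w)) =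
        ∑ i, a i • Basis.span hw i := Subtype.ext (by
      simp [Fintype.linearCombination_apply, Submodule.coe_sum])
    rw [e, map_sum, Submodule.coe_sum, Fintype.linearCombination_apply]
    exact Finset.sum_congr rfl fun i _ => by rw [map_smul, hφ, Submodule.coe_smul, Basis.span_apply]
  have hex : ∀ x : Submodule.span F (Set.range w), ∃ a, Fintype.linearCombination F w a = (x : V) := fun x => by
    have hx : (x : V) ∈ LinearMap.range (Fintype.linearCombination F w) := by
      rw [Fintype.range_linearCombination]; exact x.2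
    exact hx
  refine ⟨φ, fun x z => ?_, fun x hx => ?_⟩
  · obtain ⟨a, ha⟩ := hex x
    obtain ⟨b, hb⟩ := hex z
    have ex := hL a
    have ez := hL b
    simp only [ha, hb, Subtype.coe_eta] at ex ez
    rw [ex, ez, ← ha, ← hb, bilin_lc, bilin_lc]
    simp only [hg]
  · obtain ⟨a, ha⟩ := hex x
    have ex := hL a
    simp only [ha, Subtype.coe_eta] at ex
    have e1 := lc_shift hy 1 a
    rw [pow_one, pow_one, ha] at e1
    have e2 := lc_shift hy' 1 a
    rw [pow_one, pow_one] at e2
    have ey := hL (shiftCo F τ a)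
    simp only [← e1] at ey
    rw [ey, ex, e2]

theorem matched_sum [FiniteDimensional F V] [FiniteDimensional F V'] {X Z : Submodule F V}
    {X' Z' : Submodule F V'} (h : Matched B y X B' y' X') (h' : Matched B y Z B' y' Z')
    (hd : X ⊓ Z = ⊥) (hd' : X' ⊓ Z' = ⊥) (ho : ∀ a ∈ X, ∀ b ∈ Z, B a b = 0 ∧ B b a = 0)
    (ho' : ∀ a ∈ X', ∀ b ∈ Z', B' a b = 0 ∧ B' b a = 0) :
    Matched B y (X ⊔ Z) B' y' (X' ⊔ Z') := by
  obtain ⟨I, _, w, w', τ, hw, hw', hs, hs', hg, hy, hy'⟩ := h
  obtain ⟨J, _, v, v', σ, hv, hv', ht, ht', hgv, hv1, hv1'⟩ := h'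
  subst hs hs' ht ht'
  have m1 : ∀ i, w i ∈ Submodule.span F (Set.range w) := fun i => Submodule.subset_span ⟨i, rfl⟩
  have m2 : ∀ i, w' i ∈ Submodule.span F (Set.range w') := fun i => Submodule.subset_span ⟨i, rfl⟩
  have m3 : ∀ i, v i ∈ Submodule.span F (Set.range v) := fun i => Submodule.subset_span ⟨i, rfl⟩
  have m4 : ∀ i, v' i ∈ Submodule.span F (Set.range v') := fun i => Submodule.subset_span ⟨i, rfl⟩
  refine ⟨I ⊕ J, inferInstance, Sum.elim w v, Sum.elim w' v',
    Sum.elim (fun i => (τ i).map Sum.inl) (fun j => (σ j).map Sum.inr),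
    LinearIndependent.sum_type hw hv (disjoint_iff.2 hd), LinearIndependent.sum_type hw' hv' (disjoint_iff.2 hd'),
    by rw [Set.Sum.elim_range, Submodule.span_union], by rw [Set.Sum.elim_range, Submodule.span_union], ?_, ?_, ?_⟩
  · rintro (i | i) (j | j) <;> simp only [Sum.elim_inl, Sum.elim_inr]
    · exact hg i j
    · rw [(ho' _ (m2 i) _ (m4 j)).1, (ho _ (m1 i) _ (m3 j)).1]
    · rw [(ho' _ (m2 j) _ (m4 i)).2, (ho _ (m1 j) _ (m3 i)).2]
    · exact hgv i j
  · rintro (i | i) <;> simp only [Sum.elim_inl, Sum.elim_inr]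
    · rw [hy]; cases τ i <;> rfl
    · rw [hv1]; cases σ i <;> rfl
  · rintro (i | i) <;> simp only [Sum.elim_inl, Sum.elim_inr]
    · rw [hy']; cases τ i <;> rfl
    · rw [hv1']; cases σ i <;> rfl

section Sums

variable [Fintype V] [Fintype V'] (ψ : AddChar F ℂ)

open scoped _root_.Classical in
/-- The quadratic sum on a layer. -/
noncomputable def gSum (B : LinearMap.BilinForm F V) (y : Module.End F V) (X : Submodule F V) (e : ℕ) : ℂ :=
  ∑ x ∈ Finset.univ.filter (fun x => x ∈ X ∧ (y ^ e) x = 0), ψ (B x ((y ^ (e - 1)) x))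

variable [Fintype F]

open scoped _root_.Classical in
theorem gSum_coord {I : Type} [Fintype I] {w : I → V} {τ : I → Option I} (hw : LinearIndependent F w)
    (hy : ∀ i, y (w i) = (τ i).elim 0 w) (e : ℕ) :
    gSum ψ B y (Submodule.span F (Set.range w)) e =
      ∑ a ∈ Finset.univ.filter (fun a : I → F => (shiftCo F τ ^ e) a = 0),
        ψ (∑ i, ∑ j, a i * (((shiftCo F τ ^ (e - 1)) a) j * B (w i) (w j))) := by
  obtain ⟨L, hL⟩ : ∃ L, L = Fintype.linearCombination F w := ⟨_, rfl⟩
  have hinj : Function.Injective L := hL ▸ LinearIndependent.fintypeLinearCombination_injective hw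
  symm
  refine Finset.sum_nbij L (fun a ha => ?_) hinj.injOn (fun x hx => ?_) fun a ha => ?_
  · simp only [Finset.mem_filter, Finset.mem_univ, true_and] at ha ⊢
    exact ⟨by rw [← Fintype.range_linearCombination, ← hL]; exact ⟨a, rfl⟩, by rw [hL, lc_shift hy, ha, map_zero]⟩
  · simp only [Finset.coe_filter, Finset.mem_univ, true_and, Set.mem_setOf_eq] at hx
    obtain ⟨hx1, hx2⟩ := hx
    rw [← Fintype.range_linearCombination, ← hL] at hx1
    obtain ⟨a, rfl⟩ := hx1
    refine ⟨a, ?_, rfl⟩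
    simp only [Finset.coe_filter, Finset.mem_univ, true_and, Set.mem_setOf_eq]
    refine hinj ?_
    rw [map_zero, hL, ← lc_shift hy, ← hL]
    exact hx2
  · rw [hL, lc_shift hy, bilin_lc]

theorem gSum_matched {X : Submodule F V} {X' : Submodule F V'} (h : Matched B y X B' y' X') (e : ℕ) :
    gSum ψ B' y' X' e = gSum ψ B y X e := by
  obtain ⟨I, _, w, w', τ, hw, hw', hs, hs', hg, hy, hy'⟩ := h
  subst hs hs'
  rw [gSum_coord ψ hw hy, gSum_coord ψ hw' hy']
  simp only [hg]

omit [Fintype F] in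
open scoped _root_.Classical in
theorem gSum_add {Z C : Submodule F V} (hZ : Inv y Z) (hC : Inv y C) (hd : Z ⊓ C = ⊥)
    (ho : ∀ a ∈ Z, ∀ b ∈ C, B a b = 0 ∧ B b a = 0) (e : ℕ) :
    gSum ψ B y (Z ⊔ C) e = gSum ψ B y Z e * gSum ψ B y C e := by
  have hp : ∀ {W : Submodule F V}, Inv y W → ∀ m, ∀ x ∈ W, (y ^ m) x ∈ W := fun hW m =>
    inv_pow_mem hW m
  simp only [gSum]
  rw [Finset.sum_mul_sum, ← Finset.sum_product']
  symm
  refine Finset.sum_nbij (fun x => x.1 + x.2) (fun x hx => ?_) (fun x hx x' hx' he => ?_) (fun x hx => ?_) fun x hx => ?_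
  · simp only [Finset.mem_product, Finset.mem_filter, Finset.mem_univ, true_and] at hx ⊢
    exact ⟨Submodule.add_mem_sup hx.1.1 hx.2.1, by rw [map_add, hx.1.2, hx.2.2, add_zero]⟩
  · simp only [Finset.coe_product, Set.mem_prod, Finset.coe_filter, Finset.mem_univ, true_and, Set.mem_setOf_eq] at hx hx'
    change x.1 + x.2 = x'.1 + x'.2 at he
    have h1 : x.1 - x'.1 = x'.2 - x.2 := by linear_combination (norm := abel) he
    have h0 : x.1 - x'.1 = 0 := (Submodule.mem_bot F).1 (hd ▸ ⟨Z.sub_mem hx.1.1 hx'.1.1, h1 ▸ C.sub_mem hx'.2.1 hx.2.1⟩)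
    rw [h0, eq_comm, sub_eq_zero] at h1
    exact Prod.ext (sub_eq_zero.1 h0) h1.symm
  · simp only [Finset.coe_filter, Finset.mem_univ, true_and, Set.mem_setOf_eq] at hx
    obtain ⟨a, ha, b, hb, rfl⟩ := Submodule.mem_sup.1 hx.1
    have h := hx.2
    rw [map_add] at h
    have h0 : (y ^ e) a = 0 := (Submodule.mem_bot F).1 (hd ▸ ⟨hp hZ e a ha, by
      rw [eq_neg_of_add_eq_zero_left h]; exact C.neg_mem (hp hC e b hb)⟩)
    rw [h0, zero_add] at h
    exact ⟨(a, b), by simp [ha, hb, h0, h], rfl⟩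
  · simp only [Finset.mem_product, Finset.mem_filter, Finset.mem_univ, true_and] at hx
    simp only [map_add, LinearMap.add_apply, (ho _ hx.1.1 _ (hp hC _ _ hx.2.1)).1, (ho _ (hp hZ _ _ hx.1.1) _ hx.2.1).2,
      add_zero, zero_add, AddChar.map_add_eq_mul]

omit [Fintype F] in
open scoped _root_.Classical in
theorem gSum_bot (e : ℕ) : gSum ψ B y (⊥ : Submodule F V) e = 1 := by
  rw [gSum, Finset.sum_eq_single (0 : V)]
  · simp
  · intro b hb hb0
    simp only [Finset.mem_filter, Finset.mem_univ, true_and, Submodule.mem_bot] at hb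
    exact absurd hb.1 hb0
  · simp

end Sums

section Chains

variable (hs : ∀ a b, B (y a) b = - B a (y b))
include hs

theorem skew_pow_move : ∀ (i : ℕ) (a b : V), B ((y ^ i) a) b = (-1) ^ i * B a ((y ^ i) b) := by
  intro i
  induction i with
  | zero => intro a b; simp
  | succ i ih =>
    intro a b
    rw [pow_succ', Module.End.mul_apply, hs, ih, ← Module.End.mul_apply (y ^ i), ← pow_succ, ← pow_succ' y, pow_succ (-1 : F)]
    ring

theorem chain_gram {s n : ℕ} {π : Fin s → Fin s} {g : Fin s → V} {c : Fin s → F}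
    (hg : ∀ a b k, B (g a) ((y ^ k) (g b)) = if k + 1 = n ∧ b = π a then c a else 0) (a b : Fin s) (i j : ℕ) :
    B ((y ^ i) (g a)) ((y ^ j) (g b)) = (-1) ^ i * if i + j + 1 = n ∧ b = π a then c a else 0 := by
  rw [skew_pow_move hs, ← Module.End.mul_apply, ← pow_add, hg]

/-- The successor along a chain. -/
def chainNext (s n : ℕ) : Fin s × Fin n → Option (Fin s × Fin n) := fun x =>
  if h : (x.2 : ℕ) + 1 < n then some (x.1, ⟨(x.2 : ℕ) + 1, h⟩) else none

omit hs in
theorem chain_act {s n : ℕ} {g : Fin s → V} (hn : ∀ a, (y ^ n) (g a) = 0) (x : Fin s × Fin n) :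
    y ((y ^ (x.2 : ℕ)) (g x.1)) = (chainNext s n x).elim 0 fun x => (y ^ (x.2 : ℕ)) (g x.1) := by
  rw [← Module.End.mul_apply, ← pow_succ', chainNext]
  split_ifs with h
  · rfl
  · rw [show (x.2 : ℕ) + 1 = n by have := x.2.2; omega, hn]; rfl

theorem chain_dual {s n : ℕ} {π : Fin s → Fin s} (hπ : Function.Injective π) {g : Fin s → V} {c : Fin s → F}
    (hg : ∀ a b k, B (g a) ((y ^ k) (g b)) = if k + 1 = n ∧ b = π a then c a else 0) (z : Fin s × Fin n → F)
    (x : Fin s × Fin n) (m : ℕ) (hm : (x.2 : ℕ) + m < n) :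
    B ((y ^ m) (Fintype.linearCombination F (fun x : Fin s × Fin n => (y ^ (x.2 : ℕ)) (g x.1)) z))
      ((y ^ (n - 1 - ((x.2 : ℕ) + m))) (g (π x.1))) = (-1) ^ (m + (x.2 : ℕ)) * (z x * c x.1) := by
  rw [Fintype.linearCombination_apply, map_sum, map_sum, LinearMap.sum_apply,
    Finset.sum_eq_single x (fun w _ hw => ?_) (by simp)]
  · rw [map_smul, map_smul, LinearMap.smul_apply, ← Module.End.mul_apply, ← pow_add, chain_gram hs hg,
      if_pos ⟨by omega, rfl⟩, smul_eq_mul]
    ring
  · rw [map_smul, map_smul, LinearMap.smul_apply, ← Module.End.mul_apply, ← pow_add, chain_gram hs hg, if_neg ?_,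
      mul_zero, smul_zero]
    rintro ⟨h1, h2⟩
    exact hw (Prod.ext (hπ h2).symm (Fin.ext (by omega)))

theorem chain_frame {s n : ℕ} {π : Fin s → Fin s} (hπ : Function.Injective π) {g : Fin s → V} {c : Fin s → F}
    (hc : ∀ a, c a ≠ 0) (hg : ∀ a b k, B (g a) ((y ^ k) (g b)) = if k + 1 = n ∧ b = π a then c a else 0) :
    LinearIndependent F (fun x : Fin s × Fin n => (y ^ (x.2 : ℕ)) (g x.1)) ∧
      Nd B (Submodule.span F (Set.range fun x : Fin s × Fin n => (y ^ (x.2 : ℕ)) (g x.1))) := by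
  have hd := fun z x => chain_dual hs hπ hg z x 0 (by simpa using (x : Fin s × Fin n).2.2)
  refine ⟨Fintype.linearIndependent_iff.2 fun z hz x => ?_, fun u hu hu' => ?_⟩
  · have h := hd z x
    rw [pow_zero, Module.End.one_apply, Fintype.linearCombination_apply, hz, map_zero, LinearMap.zero_apply] at h
    exact ((mul_eq_zero.1 h.symm).resolve_left (pow_ne_zero _ (neg_ne_zero.2 one_ne_zero)) |> mul_eq_zero.1).resolve_right
      (hc _)
  · rw [← Fintype.range_linearCombination] at hu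
    obtain ⟨z, rfl⟩ := hu
    have hz : z = 0 := funext fun x => by
      have h := hd z x
      rw [pow_zero, Module.End.one_apply, hu' _ (Submodule.subset_span
        ⟨(π x.1, ⟨n - 1 - ((x.2 : ℕ) + 0), by have := x.2.2; omega⟩), rfl⟩)] at h
      exact ((mul_eq_zero.1 h.symm).resolve_left (pow_ne_zero _ (neg_ne_zero.2 one_ne_zero)) |> mul_eq_zero.1).resolve_right
        (hc _)
    rw [hz, map_zero]

omit hs in
theorem chain_inv {s n : ℕ} {g : Fin s → V} (hn : ∀ a, (y ^ n) (g a) = 0) :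
    Inv y (Submodule.span F (Set.range fun x : Fin s × Fin n => (y ^ (x.2 : ℕ)) (g x.1))) := by
  intro v hv
  rw [← Fintype.range_linearCombination] at hv ⊢
  obtain ⟨a, rfl⟩ := hv
  have h := lc_shift (chain_act hn) 1 a
  rw [pow_one] at h
  exact ⟨_, h.symm⟩

theorem chain_rank [FiniteDimensional F V] {s n : ℕ} {π : Fin s → Fin s} (hπ : Function.Injective π) {g : Fin s → V}
    {c : Fin s → F} (hc : ∀ a, c a ≠ 0) (hn : ∀ a, (y ^ n) (g a) = 0)
    (hg : ∀ a b k, B (g a) ((y ^ k) (g b)) = if k + 1 = n ∧ b = π a then c a else 0) (k : ℕ) :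
    finrank F ((Submodule.span F (Set.range fun x : Fin s × Fin n => (y ^ (x.2 : ℕ)) (g x.1))).map (y ^ k) :
      Submodule F V) = s * (n - k) := by
  have hli := (chain_frame hs hπ hc hg).1
  obtain ⟨φ, hφ⟩ : ∃ φ : Fin s × Fin (n - k) → Fin s × Fin n, ∀ x, φ x = (x.1, ⟨(x.2 : ℕ) + k, by have := x.2.2; omega⟩) :=
    ⟨_, fun x => rfl⟩
  have hφi : Function.Injective φ := fun a b h => by
    simp only [hφ, Prod.ext_iff, Fin.ext_iff] at h
    exact Prod.ext (Fin.ext h.1) (Fin.ext (Nat.add_right_cancel h.2))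
  have hmap : (Submodule.span F (Set.range fun x : Fin s × Fin n => (y ^ (x.2 : ℕ)) (g x.1))).map (y ^ k) =
      Submodule.span F (Set.range ((fun x : Fin s × Fin n => (y ^ (x.2 : ℕ)) (g x.1)) ∘ φ)) := by
    rw [Submodule.map_span]
    refine le_antisymm (Submodule.span_le.2 ?_) (Submodule.span_le.2 ?_)
    · rintro _ ⟨_, ⟨⟨a, i⟩, rfl⟩, rfl⟩
      rw [← Module.End.mul_apply, ← pow_add]
      rcases lt_or_ge (k + (i : ℕ)) n with hlt | hge
      · refine Submodule.subset_span ⟨(a, ⟨i, by omega⟩), ?_⟩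
        simp only [Function.comp_apply, hφ, add_comm]
      · rw [show k + (i : ℕ) = (k + i - n) + n by omega, pow_add, Module.End.mul_apply, hn, map_zero]
        exact Submodule.zero_mem _
    · rintro _ ⟨⟨a, i⟩, rfl⟩
      refine Submodule.subset_span ⟨(y ^ (i : ℕ)) (g a), ⟨(a, ⟨i, by omega⟩), rfl⟩, ?_⟩
      simp only [Function.comp_apply, hφ, ← Module.End.mul_apply, ← pow_add, add_comm]
  rw [hmap, finrank_span_eq_card (hli.comp φ hφi), Fintype.card_prod, Fintype.card_fin, Fintype.card_fin]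

theorem chain_matched (hs' : ∀ a b, B' (y' a) b = - B' a (y' b)) {s n : ℕ} {π : Fin s → Fin s}
    (hπ : Function.Injective π) {g : Fin s → V} {g' : Fin s → V'} {c : Fin s → F} (hc : ∀ a, c a ≠ 0)
    (hn : ∀ a, (y ^ n) (g a) = 0) (hn' : ∀ a, (y' ^ n) (g' a) = 0)
    (hg : ∀ a b k, B (g a) ((y ^ k) (g b)) = if k + 1 = n ∧ b = π a then c a else 0)
    (hg' : ∀ a b k, B' (g' a) ((y' ^ k) (g' b)) = if k + 1 = n ∧ b = π a then c a else 0) :
    Matched B y (Submodule.span F (Set.range fun x : Fin s × Fin n => (y ^ (x.2 : ℕ)) (g x.1)))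
      B' y' (Submodule.span F (Set.range fun x : Fin s × Fin n => (y' ^ (x.2 : ℕ)) (g' x.1))) :=
  ⟨Fin s × Fin n, inferInstance, _, _, chainNext s n, (chain_frame hs hπ hc hg).1, (chain_frame hs' hπ hc hg').1,
    rfl, rfl, fun i j => by rw [chain_gram hs hg, chain_gram hs' hg'], chain_act hn, chain_act hn'⟩

variable [Fintype F] [Fintype V] (ψ : AddChar F ℂ)

open scoped _root_.Classical in
theorem gSum_chain_ne {s n : ℕ} {π : Fin s → Fin s} (hπ : Function.Injective π) {g : Fin s → V} {c : Fin s → F}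
    (hc : ∀ a, c a ≠ 0) (hn : ∀ a, (y ^ n) (g a) = 0)
    (hg : ∀ a b k, B (g a) ((y ^ k) (g b)) = if k + 1 = n ∧ b = π a then c a else 0) {e : ℕ} (he : 1 ≤ e)
    (hne : n ≠ e) :
    gSum ψ B y (Submodule.span F (Set.range fun x : Fin s × Fin n => (y ^ (x.2 : ℕ)) (g x.1))) e =
      ((Finset.univ.filter fun a : Fin s × Fin n → F => (shiftCo F (chainNext s n) ^ e) a = 0).card : ℂ) := by
  rw [gSum_coord ψ (chain_frame hs hπ hc hg).1 (chain_act hn)]
  refine (Finset.sum_congr rfl (g := fun _ => (1 : ℂ)) fun z hz => ?_).trans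
    (by simp only [Finset.sum_const, nsmul_eq_mul, mul_one]; congr!)
  simp only [Finset.mem_filter, Finset.mem_univ, true_and] at hz
  rw [← bilin_lc, ← lc_shift (chain_act hn)]
  suffices h0 : B (Fintype.linearCombination F (fun x : Fin s × Fin n => (y ^ (x.2 : ℕ)) (g x.1)) z)
      ((y ^ (e - 1)) (Fintype.linearCombination F (fun x : Fin s × Fin n => (y ^ (x.2 : ℕ)) (g x.1)) z)) = 0 by
    rw [h0, AddChar.map_zero_eq_one]
  have hz0 : ∀ x : Fin s × Fin n, (x.2 : ℕ) + e < n → z x = 0 := fun x hx => by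
    have h := chain_dual hs hπ hg z x e hx
    rw [lc_shift (chain_act hn), hz, map_zero, map_zero, LinearMap.zero_apply] at h
    exact ((mul_eq_zero.1 h.symm).resolve_left (pow_ne_zero _ (neg_ne_zero.2 one_ne_zero)) |> mul_eq_zero.1).resolve_right
      (hc _)
  rw [Fintype.linearCombination_apply]
  simp only [map_sum, LinearMap.sum_apply, map_smul, LinearMap.smul_apply, smul_eq_mul]
  refine Finset.sum_eq_zero fun x _ => ?_
  rw [Finset.mul_sum]
  refine Finset.sum_eq_zero fun w _ => ?_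
  rw [← Module.End.mul_apply, ← pow_add, chain_gram hs hg]
  by_cases h : ((x.2 : ℕ) + e < n ∨ (w.2 : ℕ) + e < n)
  · rcases h with h | h <;> rw [hz0 _ h] <;> ring
  · rw [if_neg (by rintro ⟨h1, -⟩; omega)]; ring

open scoped _root_.Classical in
theorem gSum_chain_eq {e : ℕ} {g : V} {c : F} (hc : c ≠ 0) (hn : (y ^ (e + 1)) g = 0)
    (hg : ∀ k, B g ((y ^ k) g) = if k + 1 = e + 1 then c else 0) :
    gSum ψ B y (Submodule.span F (Set.range fun x : Fin 1 × Fin (e + 1) => (y ^ (x.2 : ℕ)) g)) (e + 1) =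
      (Fintype.card F : ℂ) ^ e * qSum ψ c := by
  have hn' : ∀ a : Fin 1, (y ^ (e + 1)) ((fun _ : Fin 1 => g) a) = 0 := fun _ => hn
  have hg' : ∀ (a b : Fin 1) (k : ℕ), B ((fun _ : Fin 1 => g) a) ((y ^ k) ((fun _ : Fin 1 => g) b)) =
      if k + 1 = e + 1 ∧ b = id a then (fun _ : Fin 1 => c) a else 0 := fun a b k => by
    rw [Subsingleton.elim b a]; simpa using hg k
  have hact := chain_act (s := 1) (g := fun _ : Fin 1 => g) hn'
  have hli := (chain_frame hs (π := id) Function.injective_id (fun _ => hc) hg').1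
  rw [gSum_coord ψ (w := fun x : Fin 1 × Fin (e + 1) => (y ^ (x.2 : ℕ)) g) hli hact]
  have hall : ∀ z : Fin 1 × Fin (e + 1) → F, (shiftCo F (chainNext 1 (e + 1)) ^ (e + 1)) z = 0 := fun z => by
    refine (LinearIndependent.fintypeLinearCombination_injective hli) ?_
    rw [map_zero, ← lc_shift hact, Fintype.linearCombination_apply, map_sum]
    exact Finset.sum_eq_zero fun x _ => by
      rw [map_smul, ← Module.End.mul_apply, ← pow_add, add_comm, pow_add, Module.End.mul_apply, hn, map_zero, smul_zero]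
  rw [Finset.filter_true_of_mem fun z _ => hall z]
  have hval : ∀ z : Fin 1 × Fin (e + 1) → F, (∑ i, ∑ j, z i * (((shiftCo F (chainNext 1 (e + 1)) ^ (e + 1 - 1)) z) j *
      B ((y ^ (i.2 : ℕ)) g) ((y ^ (j.2 : ℕ)) g))) = c * z (0, 0) ^ 2 := fun z => by
    rw [← bilin_lc, ← lc_shift hact, Nat.add_sub_cancel, Fintype.linearCombination_apply]
    simp only [map_sum, LinearMap.sum_apply, map_smul, LinearMap.smul_apply, smul_eq_mul, ← Module.End.mul_apply,
      ← pow_add]
    rw [Finset.sum_eq_single ((0 : Fin 1), (0 : Fin (e + 1))) (fun x _ hx => ?_) (by simp)]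
    · rw [Finset.sum_eq_single ((0 : Fin 1), (0 : Fin (e + 1))) (fun x _ hx => ?_) (by simp)]
      · simp only [Fin.val_zero, add_zero, pow_zero, Module.End.one_apply, hg, if_true]
        ring
      · simp only [Fin.val_zero, add_zero]
        rw [skew_pow_move hs, ← Module.End.mul_apply, ← pow_add, hg, if_neg fun h => hx
          (Prod.ext (Subsingleton.elim _ _) (Fin.ext (show (x.2 : ℕ) = 0 by omega)))]
        ring
    · refine mul_eq_zero_of_right _ (Finset.sum_eq_zero fun w _ => ?_)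
      rw [skew_pow_move hs, ← Module.End.mul_apply, ← pow_add, hg, if_neg fun h => hx
        (Prod.ext (Subsingleton.elim _ _) (Fin.ext (show (x.2 : ℕ) = 0 by omega)))]
      ring
  simp only [hval]
  let E : F × (Fin e → F) ≃ (Fin 1 × Fin (e + 1) → F) :=
    (Fin.consEquiv fun _ => F).trans (Equiv.arrowCongr (Equiv.uniqueProd (Fin (e + 1)) (Fin 1)).symm (Equiv.refl F))
  trans ∑ p : F × (Fin e → F), ψ (c * p.1 ^ 2)
  · symm
    refine Finset.sum_bij' (fun p _ => E p) (fun z _ => E.symm z) (fun p _ => by simp)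
      (fun z _ => by simp) (fun p _ => E.symm_apply_apply p) (fun z _ => E.apply_symm_apply z)
      fun p _ => ?_
    simp [E]
  · rw [Fintype.sum_prod_type]
    simp only [qSum, Finset.mul_sum]
    refine Finset.sum_congr rfl fun t _ => ?_
    simp [Finset.card_univ]

end Chains

section Normalise

variable {X : Submodule F V} (hs : ∀ a b, B (y a) b = - B a (y b)) (hA : B.IsAlt) (h2 : (2 : F) ≠ 0) (hX : Inv y X)
include hs hA h2

theorem pair_swap (a b : V) (m : ℕ) : B b ((y ^ m) a) = -((-1) ^ m * B a ((y ^ m) b)) := by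
  rw [← LinearMap.IsAlt.neg hA ((y ^ m) a) b, skew_pow_move hs]

theorem self_even (a : V) {m : ℕ} (hm : Even m) : B a ((y ^ m) a) = 0 := by
  have h := pair_swap hs hA h2 a a m
  rw [hm.neg_one_pow, one_mul] at h
  exact (mul_eq_zero.1 (show (2 : F) * B a ((y ^ m) a) = 0 by linear_combination h)).resolve_left h2

include hX

theorem normal_single {e : ℕ} (he : Even e) (he0 : 0 < e) {g : V} (hg : g ∈ X) (hn : ∀ x ∈ X, (y ^ e) x = 0) {c : F}
    (hc : c ≠ 0) (htop : B g ((y ^ (e - 1)) g) = c) :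
    ∃ g' ∈ X, ∀ k, B g' ((y ^ k) g') = if k + 1 = e then c else 0 := by
  have hbig : ∀ a, ∀ b ∈ X, ∀ j, e ≤ j → B a ((y ^ j) b) = 0 := fun a b hb j hj => by
    rw [show j = (j - e) + e by omega, pow_add, Module.End.mul_apply, hn b hb, map_zero, map_zero]
  suffices h : ∀ l, ∃ g' ∈ X, B g' ((y ^ (e - 1)) g') = c ∧ ∀ m, m + 1 < e → e ≤ m + 1 + l → B g' ((y ^ m) g') = 0 by
    obtain ⟨g', hg', h1, h0⟩ := h e
    refine ⟨g', hg', fun k => ?_⟩
    rcases lt_trichotomy (k + 1) e with hlt | heq | hgt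
    · rw [if_neg (by omega), h0 k hlt (by omega)]
    · rw [if_pos heq, show k = e - 1 by omega, h1]
    · rw [if_neg (by omega), hbig _ _ hg' k (by omega)]
  intro l
  induction l with
  | zero => exact ⟨g, hg, htop, fun m h1 h3 => by omega⟩
  | succ l ih =>
    obtain ⟨a, ha, h1, h0⟩ := ih
    by_cases hbad : e < l + 2 ∨ Odd (l + 1)
    · refine ⟨a, ha, h1, fun m hm hm' => ?_⟩
      by_cases hlev : e ≤ m + 1 + l
      · exact h0 m hm hlev
      · rcases hbad with hbad | hbad
        · omega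
        · refine self_even hs hA h2 a ?_
          obtain ⟨i, hi⟩ := hbad
          obtain ⟨j, hj⟩ := he
          exact ⟨j - i - 1, by omega⟩
    push Not at hbad
    obtain ⟨hl, hk⟩ := hbad
    rw [Nat.not_odd_iff_even] at hk
    obtain ⟨lam, hlam⟩ : ∃ lam, lam = -(B a ((y ^ (e - 2 - l)) a)) / (2 * c) := ⟨_, rfl⟩
    have hexp : ∀ j, B (a + lam • (y ^ (l + 1)) a) ((y ^ j) (a + lam • (y ^ (l + 1)) a)) =
        B a ((y ^ j) a) + 2 * lam * B a ((y ^ (j + (l + 1))) a) + lam * lam * B a ((y ^ (l + 1 + (j + (l + 1)))) a) :=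
      fun j => by
      simp only [map_add, map_smul, LinearMap.add_apply, LinearMap.smul_apply, smul_eq_mul, skew_pow_move hs,
        ← Module.End.mul_apply, ← pow_add, hk.neg_one_pow, add_comm (l + 1) j]
      ring
    refine ⟨_, X.add_mem ha (X.smul_mem lam (inv_pow_mem hX (l + 1) a ha)), ?_, fun m hm hm' => ?_⟩
    · rw [hexp, h1, hbig _ _ ha _ (by omega), hbig _ _ ha (l + 1 + (e - 1 + (l + 1))) (by omega)]
      ring
    · rw [hexp, hbig _ _ ha (l + 1 + (m + (l + 1))) (by omega)]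
      by_cases hlev : e ≤ m + 1 + l
      · rw [h0 m hm hlev, hbig _ _ ha _ (by omega)]
        ring
      · rw [show m = e - 2 - l by omega, show e - 2 - l + (l + 1) = e - 1 by omega, h1, hlam]
        field_simp
        ring

theorem normal_pair {e : ℕ} (he : Odd e) {u v : V} (hu : u ∈ X) (hv : v ∈ X) (hn : ∀ x ∈ X, (y ^ e) x = 0)
    (htop : B u ((y ^ (e - 1)) v) = 1) :
    ∃ g : Fin 2 → V, (∀ a, g a ∈ X) ∧
      ∀ a b k, B (g a) ((y ^ k) (g b)) = if k + 1 = e ∧ b = ![1, 0] a then ![(1 : F), -1] a else 0 := by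
  have he1 : 1 ≤ e := he.pos
  have hbig : ∀ a, ∀ b ∈ X, ∀ j, e ≤ j → B a ((y ^ j) b) = 0 := fun a b hb j hj => by
    rw [show j = (j - e) + e by omega, pow_add, Module.End.mul_apply, hn b hb, map_zero, map_zero]
  have hev : Even (e - 1) := by obtain ⟨i, hi⟩ := he; exact ⟨i, by omega⟩
  suffices h : ∀ l, ∃ u' ∈ X, ∃ v' ∈ X, B u' ((y ^ (e - 1)) v') = 1 ∧ ∀ m, m + 1 < e → e ≤ m + 1 + l →
      B u' ((y ^ m) v') = 0 ∧ B u' ((y ^ m) u') = 0 ∧ B v' ((y ^ m) v') = 0 by
    obtain ⟨a, ha, b, hb, h1, h0⟩ := h e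
    refine ⟨![a, b], fun i => by fin_cases i <;> assumption, fun i j k => ?_⟩
    rcases lt_trichotomy (k + 1) e with hlt | heq | hgt
    · obtain ⟨p1, p2, p3⟩ := h0 k hlt (by omega)
      fin_cases i <;> fin_cases j <;> simp [hlt.ne, p1, p2, p3, pair_swap hs hA h2 a b k]
    · obtain rfl : k = e - 1 := by omega
      fin_cases i <;> fin_cases j <;>
        simp [heq, h1, self_even hs hA h2 _ hev, pair_swap hs hA h2 a b (e - 1), hev.neg_one_pow]
    · have hab : ∀ i, (![a, b] : Fin 2 → V) i ∈ X := fun i => by fin_cases i <;> assumption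
      rw [if_neg (by omega), hbig _ _ (hab j) k (by omega)]
  intro l
  induction l with
  | zero => exact ⟨u, hu, v, hv, htop, fun m h1 h3 => by omega⟩
  | succ l ih =>
    obtain ⟨a, ha, b, hb, h1, h0⟩ := ih
    by_cases hl : e < l + 2
    · exact ⟨a, ha, b, hb, h1, fun m hm hm' => h0 m hm (by omega)⟩
    obtain ⟨lam, hlam⟩ : ∃ lam, lam = -(B a ((y ^ (e - 2 - l)) b)) := ⟨_, rfl⟩
    obtain ⟨mu, hmu⟩ : ∃ mu, mu = B b ((y ^ (e - 2 - l)) b) / 2 := ⟨_, rfl⟩
    obtain ⟨nu, hnu⟩ : ∃ nu, nu = -(B a ((y ^ (e - 2 - l)) a)) / 2 := ⟨_, rfl⟩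
    have hp := inv_pow_mem hX (l + 1)
    have hbb : B b ((y ^ (e - 1)) b) = 0 := self_even hs hA h2 b hev
    have haa : B a ((y ^ (e - 1)) a) = 0 := self_even hs hA h2 a hev
    have hba : B b ((y ^ (e - 1)) a) = -1 := by rw [pair_swap hs hA h2 a b, h1, hev.neg_one_pow, one_mul]
    refine ⟨a + nu • (y ^ (l + 1)) b, X.add_mem ha (X.smul_mem _ (hp b hb)),
      b + (lam • (y ^ (l + 1)) b + mu • (y ^ (l + 1)) a),
      X.add_mem hb (X.add_mem (X.smul_mem _ (hp b hb)) (X.smul_mem _ (hp a ha))), ?_, fun m hm hm' => ?_⟩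
    · simp only [map_add, map_smul, LinearMap.add_apply, LinearMap.smul_apply, smul_eq_mul, skew_pow_move hs,
        ← Module.End.mul_apply, ← pow_add, h1]
      rw [hbig _ _ hb (e - 1 + (l + 1)) (by omega), hbig _ _ ha (e - 1 + (l + 1)) (by omega),
        hbig _ _ hb (l + 1 + (e - 1)) (by omega), hbig _ _ hb (l + 1 + (e - 1 + (l + 1))) (by omega),
        hbig _ _ ha (l + 1 + (e - 1 + (l + 1))) (by omega)]
      ring
    · by_cases hlev : e ≤ m + 1 + l
      · obtain ⟨p1, p2, p3⟩ := h0 m hm hlev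
        simp only [map_add, map_smul, LinearMap.add_apply, LinearMap.smul_apply, smul_eq_mul, skew_pow_move hs,
          ← Module.End.mul_apply, ← pow_add, p1, p2, p3]
        simp only [hbig _ _ hb (m + (l + 1)) (by omega), hbig _ _ ha (m + (l + 1)) (by omega),
          hbig _ _ hb (l + 1 + m) (by omega), hbig _ _ ha (l + 1 + m) (by omega),
          hbig _ _ hb (l + 1 + (m + (l + 1))) (by omega), hbig _ _ ha (l + 1 + (m + (l + 1))) (by omega)]
        simp
      · obtain rfl : m = e - 2 - l := by omega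
        simp only [map_add, map_smul, LinearMap.add_apply, LinearMap.smul_apply, smul_eq_mul, skew_pow_move hs,
          ← Module.End.mul_apply, ← pow_add]
        rw [show e - 2 - l + (l + 1) = e - 1 by omega, show l + 1 + (e - 2 - l) = e - 1 by omega]
        simp only [h1, hbb, haa, hba, hbig _ _ hb (l + 1 + (e - 1)) (by omega), hbig _ _ ha (l + 1 + (e - 1)) (by omega)]
        rcases Nat.even_or_odd (l + 1) with hk | hk
        · have hm2 : Even (e - 2 - l) := by
            obtain ⟨i, hi⟩ := hk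
            obtain ⟨j, hj⟩ := hev
            exact ⟨j - i, by omega⟩
          rw [self_even hs hA h2 a hm2] at hnu ⊢
          rw [self_even hs hA h2 b hm2] at hmu ⊢
          simp [hlam, hmu, hnu]
        · simp only [hk.neg_one_pow, hlam, hmu, hnu]
          refine ⟨?_, ?_, ?_⟩ <;> field_simp <;> ring

end Normalise

end CfsgLib.Classical.SpOrderP
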