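/-
Skew nilpotent maps with the same ranks differ only by signs of their quadratic sums, and the sums decide.
-/
import Cfsg.Agent.Lib.Classical.SpOrderP.Chain
import Cfsg.Agent.Lib.Classical22.NilpotentPartition

set_option autoImplicit false

namespace CfsgLib.Classical.SpOrderP

open Module CfsgLib.Classical22.PrimeMaps CfsgLib.Classical22.PrimeMaps.Symp

universe u

variable {F : Type u} [Field F] {V : Type u} [AddCommGroup V] [Module F V]
  {B : LinearMap.BilinForm F V} {y : Module.End F V}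

/-- The rank of a power on a subspace. -/
noncomputable def rkPow (y : Module.End F V) (X : Submodule F V) (k : ℕ) : ℕ :=
  finrank F (X.map (y ^ k) : Submodule F V)

theorem rkPow_zero (X : Submodule F V) : rkPow y X 0 = finrank F X := by
  rw [rkPow, pow_zero, Module.End.one_eq_id, Submodule.map_id]

theorem rkPow_eq_zero [FiniteDimensional F V] {X : Submodule F V} {k : ℕ} :
    rkPow y X k = 0 ↔ ∀ x ∈ X, (y ^ k) x = 0 := by
  rw [rkPow, Submodule.finrank_eq_zero, Submodule.eq_bot_iff]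
  exact ⟨fun h x hx => h _ ⟨x, hx, rfl⟩, by rintro h _ ⟨x, hx, rfl⟩; exact h x hx⟩

section Top

variable (hs : ∀ a b, B (y a) b = - B a (y b)) (hA : B.IsAlt) (h2 : (2 : F) ≠ 0) {X : Submodule F V}
  (hX : Inv y X) (hXn : Nd B X) {n : ℕ} (htop : ¬ ∀ x ∈ X, (y ^ (n - 1)) x = 0)
include hs hA h2 hX hXn htop

theorem exists_top_pair : ∃ u ∈ X, ∃ v ∈ X, B u ((y ^ (n - 1)) v) = 1 := by
  push Not at htop
  obtain ⟨x, hx, hx0⟩ := htop
  by_contra hcon
  push Not at hcon
  refine hx0 (hXn _ (inv_pow_mem hX _ x hx) fun v hv => ?_)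
  rw [skew_pow_move hs]
  by_contra hne
  refine hcon x hx ((B x ((y ^ (n - 1)) v))⁻¹ • v) (X.smul_mem _ hv) ?_
  rw [map_smul, map_smul, smul_eq_mul, inv_mul_cancel₀ fun h => hne (by rw [h, mul_zero])]

theorem exists_top_single (hn : Even n) (hn0 : 0 < n) : ∃ g ∈ X, B g ((y ^ (n - 1)) g) ≠ 0 := by
  obtain ⟨u, hu, v, hv, huv⟩ := exists_top_pair hs hA h2 hX hXn htop
  by_contra hcon
  push Not at hcon
  have hodd : Odd (n - 1) := by obtain ⟨i, hi⟩ := hn; exact ⟨i - 1, by omega⟩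
  have h := hcon (u + v) (X.add_mem hu hv)
  simp only [map_add, LinearMap.add_apply, hcon u hu, hcon v hv, huv, pair_swap hs hA h2 u v (n - 1), hodd.neg_one_pow] at h
  exact h2 (by linear_combination h)

end Top

section Split

variable [FiniteDimensional F V] (hs : ∀ a b, B (y a) b = - B a (y b)) (hA : B.IsAlt) {X : Submodule F V}
  (hX : Inv y X) (hXn : Nd B X)
include hs hA hX hXn

theorem chain_split {s n : ℕ} {π : Fin s → Fin s} (hπ : Function.Injective π) {g : Fin s → V} {c : Fin s → F}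
    (hc : ∀ a, c a ≠ 0) (hgX : ∀ a, g a ∈ X) (hn : ∀ a, (y ^ n) (g a) = 0)
    (hg : ∀ a b k, B (g a) ((y ^ k) (g b)) = if k + 1 = n ∧ b = π a then c a else 0)
    {Z : Submodule F V} (hZ : Z = Submodule.span F (Set.range fun x : Fin s × Fin n => (y ^ (x.2 : ℕ)) (g x.1))) :
    ∃ C : Submodule F V, C ≤ X ∧ Inv y C ∧ Nd B C ∧ Inv y Z ∧ Z ⊓ C = ⊥ ∧ Z ⊔ C = X ∧
      (∀ a ∈ Z, ∀ b ∈ C, B a b = 0 ∧ B b a = 0) ∧ s * n + finrank F C = finrank F X ∧
      ∀ k, rkPow y X k = s * (n - k) + rkPow y C k := by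
  subst hZ
  have hZX : Submodule.span F (Set.range fun x : Fin s × Fin n => (y ^ (x.2 : ℕ)) (g x.1)) ≤ X := by
    rw [Submodule.span_le]
    rintro _ ⟨x, rfl⟩
    exact inv_pow_mem hX _ _ (hgX _)
  obtain ⟨hli, hnd⟩ := chain_frame hs hπ hc hg
  obtain ⟨h1, h2', h3, h4⟩ := compl_in hA hnd hZX
  have hZi := chain_inv (y := y) hn
  refine ⟨_, inf_le_left, fun x hx => ⟨hX x hx.1, fun z hz => ?_⟩, h3 hXn, hZi, h1, h2',
    fun a ha b hb => ⟨hb.2 a ha, hA.isRefl _ _ (hb.2 a ha)⟩, ?_, fun k => ?_⟩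
  · show B z (y x) = 0
    rw [← neg_eq_iff_eq_neg.2 (hs z x), hx.2 (y z) (hZi z hz), neg_zero]
  · rw [← h4, finrank_span_eq_card hli, Fintype.card_prod, Fintype.card_fin, Fintype.card_fin]
  · conv_lhs => rw [← h2']
    have hCi : Inv y (X ⊓ B.orthogonal (Submodule.span F (Set.range fun x : Fin s × Fin n => (y ^ (x.2 : ℕ)) (g x.1)))) :=
      fun x hx => ⟨hX x hx.1, fun z hz => by
        show B z (y x) = 0
        rw [← neg_eq_iff_eq_neg.2 (hs z x), hx.2 (y z) (hZi z hz), neg_zero]⟩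
    simp only [rkPow]
    rw [CfsgLib.Classical22.NilPart.rank_add hZi hCi h1, chain_rank hs hπ hc hn hg]

theorem single_split (h2 : (2 : F) ≠ 0) {n : ℕ} (hn : Even n) (hn0 : 0 < n) (hN : ∀ x ∈ X, (y ^ n) x = 0) {g : V}
    (hg : g ∈ X) {c : F} (hc : c ≠ 0) (htop : B g ((y ^ (n - 1)) g) = c) :
    ∃ (w : V) (C : Submodule F V), w ∈ X ∧ (y ^ n) w = 0 ∧ (∀ k, B w ((y ^ k) w) = if k + 1 = n then c else 0) ∧
      C ≤ X ∧ Inv y C ∧ Nd B C ∧ Inv y (Submodule.span F (Set.range fun x : Fin 1 × Fin n => (y ^ (x.2 : ℕ)) w)) ∧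
      Submodule.span F (Set.range fun x : Fin 1 × Fin n => (y ^ (x.2 : ℕ)) w) ⊓ C = ⊥ ∧
      Submodule.span F (Set.range fun x : Fin 1 × Fin n => (y ^ (x.2 : ℕ)) w) ⊔ C = X ∧
      (∀ a ∈ Submodule.span F (Set.range fun x : Fin 1 × Fin n => (y ^ (x.2 : ℕ)) w), ∀ b ∈ C, B a b = 0 ∧ B b a = 0) ∧
      n + finrank F C = finrank F X ∧ ∀ k, rkPow y X k = (n - k) + rkPow y C k := by
  obtain ⟨w, hw, hwg⟩ := normal_single hs hA h2 hX hn hn0 hg hN hc htop
  obtain ⟨C, h1, h2', h3, h4, h5, h6, h7, h8, h9⟩ := chain_split hs hA hX hXn (s := 1) (n := n) (π := id)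
    Function.injective_id (g := fun _ => w) (c := fun _ => c) (fun _ => hc) (fun _ => hw) (fun _ => hN w hw)
    (fun a b k => by rw [hwg k, Subsingleton.elim b (id a)]; simp) rfl
  refine ⟨w, C, hw, hN w hw, hwg, h1, h2', h3, h4, h5, h6, h7, by rw [← h8, one_mul], fun k => ?_⟩
  rw [h9 k, one_mul]

end Split

section Finite

variable [Fintype F] [Fintype V] (ψ : AddChar F ℂ)

open scoped _root_.Classical in
theorem gSum_low {C : Submodule F V} {e : ℕ} (hC : ∀ x ∈ C, (y ^ (e - 1)) x = 0) (he : 0 < e) :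
    gSum ψ B y C e = (Fintype.card F : ℂ) ^ finrank F C := by
  have hCe : ∀ x ∈ C, (y ^ e) x = 0 := fun x hx => by
    rw [show e = 1 + (e - 1) by omega, pow_add, Module.End.mul_apply, hC x hx, map_zero]
  rw [gSum, Finset.sum_congr rfl (g := fun _ => (1 : ℂ)) fun x hx => ?_, Finset.sum_const, nsmul_eq_mul, mul_one]
  · rw [show (Finset.univ.filter fun x => x ∈ C ∧ (y ^ e) x = 0) = Finset.univ.filter fun x => x ∈ C from
      Finset.filter_congr fun x _ => ⟨And.left, fun h => ⟨h, hCe x h⟩⟩, ← Fintype.card_subtype, ← Nat.card_eq_fintype_card,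
      show Nat.card {x // x ∈ C} = Nat.card C from rfl, Module.natCard_eq_pow_finrank (K := F),
      Nat.card_eq_fintype_card, Nat.cast_pow]
  · simp only [Finset.mem_filter, Finset.mem_univ, true_and] at hx
    rw [hC x hx.1, map_zero, AddChar.map_zero_eq_one]

variable (hs : ∀ a b, B (y a) b = - B a (y b))
include hs

theorem gSum_chain_ne_zero {s n : ℕ} {π : Fin s → Fin s} (hπ : Function.Injective π) {g : Fin s → V} {c : Fin s → F}
    (hc : ∀ a, c a ≠ 0) (hn : ∀ a, (y ^ n) (g a) = 0)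
    (hg : ∀ a b k, B (g a) ((y ^ k) (g b)) = if k + 1 = n ∧ b = π a then c a else 0) {e : ℕ} (he : 1 ≤ e)
    (hne : n ≠ e) :
    gSum ψ B y (Submodule.span F (Set.range fun x : Fin s × Fin n => (y ^ (x.2 : ℕ)) (g x.1))) e ≠ 0 := by
  rw [gSum_chain_ne hs ψ hπ hc hn hg he hne, Nat.cast_ne_zero, ← Nat.pos_iff_ne_zero, Finset.card_pos]
  exact ⟨0, by simp⟩

theorem gSum_single_eq {n : ℕ} (hn0 : 0 < n) {w : V} {c : F} (hc : c ≠ 0) (hn : (y ^ n) w = 0)
    (hw : ∀ k, B w ((y ^ k) w) = if k + 1 = n then c else 0) :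
    gSum ψ B y (Submodule.span F (Set.range fun x : Fin 1 × Fin n => (y ^ (x.2 : ℕ)) w)) n =
      (Fintype.card F : ℂ) ^ (n - 1) * qSum ψ c := by
  obtain ⟨e, rfl⟩ : ∃ e, n = e + 1 := ⟨n - 1, by omega⟩
  rw [gSum_chain_eq hs ψ hc hn hw, Nat.add_sub_cancel]

variable (hA : B.IsAlt) (h2 : (2 : F) ≠ 0)
include hA h2

omit ψ in
theorem exists_top_one {X : Submodule F V} (hX : Inv y X) (hXn : Nd B X) {n : ℕ} (hn : Even n) (hn0 : 0 < n)
    (hN : ∀ x ∈ X, (y ^ n) x = 0) (h2n : 2 ≤ rkPow y X (n - 1)) : ∃ g ∈ X, B g ((y ^ (n - 1)) g) = 1 := by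
  obtain ⟨g, hg, hg0⟩ := exists_top_single hs hA h2 hX hXn (n := n) (fun h => by
    rw [rkPow_eq_zero.2 h] at h2n; omega) hn hn0
  obtain ⟨w, C, hw, hwn, hwg, hCX, hCi, hCn, hZi, hd, hsup, ho, hdim, hr⟩ :=
    single_split hs hA hX hXn h2 hn hn0 hN hg hg0 rfl
  obtain ⟨v, hv, hv0⟩ := exists_top_single hs hA h2 hCi hCn (n := n) (fun h => by
    have := hr (n - 1)
    rw [rkPow_eq_zero.2 h] at this; omega) hn hn0
  obtain ⟨a, b, hab⟩ := FiniteField.exists_root_sum_quadratic (R := F)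
    (f := Polynomial.C (B g ((y ^ (n - 1)) g)) * Polynomial.X ^ 2 - Polynomial.C 1)
    (g := Polynomial.C (B v ((y ^ (n - 1)) v)) * Polynomial.X ^ 2)
    ((Polynomial.degree_sub_eq_left_of_degree_lt (lt_of_le_of_lt Polynomial.degree_C_le
      (by rw [Polynomial.degree_C_mul_X_pow 2 hg0]; norm_num))).trans (Polynomial.degree_C_mul_X_pow 2 hg0))
    (Polynomial.degree_C_mul_X_pow 2 hv0)
    (FiniteField.odd_card_of_char_ne_two fun h => h2 (by
      haveI : CharP F 2 := ringChar.of_eq h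
      exact_mod_cast CharP.cast_eq_zero F 2))
  simp only [Polynomial.eval_sub, Polynomial.eval_mul, Polynomial.eval_pow, Polynomial.eval_X, Polynomial.eval_C] at hab
  have hwm : ∀ i, (y ^ i) w ∈ Submodule.span F (Set.range fun x : Fin 1 × Fin n => (y ^ (x.2 : ℕ)) w) := fun i =>
    inv_pow_mem hZi i w (Submodule.subset_span ⟨(0, ⟨0, hn0⟩), rfl⟩)
  refine ⟨a • w + b • v, X.add_mem (X.smul_mem _ hw) (X.smul_mem _ (hCX hv)), ?_⟩
  simp only [map_add, map_smul, LinearMap.add_apply, LinearMap.smul_apply, smul_eq_mul,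
    (ho w (hwm 0) _ (inv_pow_mem hCi (n - 1) v hv)).1, (ho _ (hwm (n - 1)) v hv).2, hwg (n - 1),
    if_pos (show n - 1 + 1 = n by omega)]
  linear_combination hab

theorem qSum_pm (hψ : ψ.IsPrimitive) {a b : F} (ha : a ≠ 0) (hb : b ≠ 0) :
    qSum ψ b = qSum ψ a ∨ qSum ψ b = -qSum ψ a := by
  have h : ∀ x : F, x ≠ 0 → qSum ψ x = qSum ψ 1 ∨ qSum ψ x = -qSum ψ 1 := fun x hx => by
    by_cases hx2 : IsSquare x
    · exact Or.inl ((qSum_class hψ h2 hx one_ne_zero).2 (by rwa [mul_one]))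
    · exact Or.inr (qSum_flip hψ h2 hx2)
  rcases h a ha with h1 | h1 <;> rcases h b hb with h3 | h3 <;> simp [h1, h3]

end Finite

section Classify

variable [Fintype F] [Fintype V] {V' : Type u} [AddCommGroup V'] [Module F V'] [Fintype V']
  {B' : LinearMap.BilinForm F V'} {y' : Module.End F V'}
  (hs : ∀ a b, B (y a) b = - B a (y b)) (hA : B.IsAlt)
  (hs' : ∀ a b, B' (y' a) b = - B' a (y' b)) (hA' : B'.IsAlt)
  (h2 : (2 : F) ≠ 0) {ψ : AddChar F ℂ} (hψ : ψ.IsPrimitive) {p : ℕ} (hy : y ^ p = 0)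
include hs hA hs' hA' h2 hψ hy

theorem classify : ∀ (d : ℕ) (X : Submodule F V) (X' : Submodule F V'), finrank F X = d → Inv y X → Nd B X →
    Inv y' X' → Nd B' X' → (∀ k, rkPow y' X' k = rkPow y X k) →
    (∀ e, Even e → 0 < e → gSum ψ B y X e ≠ 0 ∧ (gSum ψ B' y' X' e = gSum ψ B y X e ∨
      (gSum ψ B' y' X' e = -gSum ψ B y X e ∧ rkPow y X (e - 1) + rkPow y X (e + 1) ≠ 2 * rkPow y X e))) ∧
    ((∀ e, Even e → 0 < e → gSum ψ B' y' X' e = gSum ψ B y X e) → Matched B y X B' y' X') := by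
  classical
  intro d
  induction d using Nat.strong_induction_on with
  | _ d ih =>
    intro X X' hd hX hXn hX' hXn' hr
    by_cases h0 : X = ⊥
    · subst h0
      obtain rfl : X' = ⊥ := by
        rw [← Submodule.finrank_eq_zero, ← rkPow_zero (y := y'), hr, rkPow_zero, finrank_bot]
      refine ⟨fun e _ _ => by simp [gSum_bot], fun _ =>
        ⟨Fin 0, inferInstance, Fin.elim0, Fin.elim0, Fin.elim0, linearIndependent_empty_type, linearIndependent_empty_type,
          by simp, by simp, fun i => i.elim0, fun i => i.elim0, fun i => i.elim0⟩⟩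
    have hex : ∃ n, rkPow y X n = 0 := ⟨p, rkPow_eq_zero.2 fun x _ => by rw [hy]; rfl⟩
    obtain ⟨n, hn⟩ : ∃ n, n = Nat.find hex := ⟨_, rfl⟩
    have hn0 : 0 < n := by
      rcases Nat.eq_zero_or_pos n with h | h
      · have := hn ▸ Nat.find_spec hex
        rw [h, rkPow_zero, Submodule.finrank_eq_zero] at this
        exact absurd this h0
      · exact h
    have hN : ∀ x ∈ X, (y ^ n) x = 0 := rkPow_eq_zero.1 (hn ▸ Nat.find_spec hex)
    have hN' : ∀ x ∈ X', (y' ^ n) x = 0 := rkPow_eq_zero.1 (by rw [hr]; exact rkPow_eq_zero.2 hN)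
    have htop : ¬ ∀ x ∈ X, (y ^ (n - 1)) x = 0 := fun h =>
      Nat.find_min hex (show n - 1 < Nat.find hex by omega) (rkPow_eq_zero.2 h)
    have htop' : ¬ ∀ x ∈ X', (y' ^ (n - 1)) x = 0 := fun h =>
      htop (rkPow_eq_zero.1 (by rw [← hr]; exact rkPow_eq_zero.2 h))
    rcases Nat.even_or_odd n with hev | hodd
    · -- even level
      have key : ∀ {g : V} {g' : V'} {c c' : F}, g ∈ X → g' ∈ X' → c ≠ 0 → c' ≠ 0 →
          B g ((y ^ (n - 1)) g) = c → B' g' ((y' ^ (n - 1)) g') = c' → ∃ (Z C : Submodule F V) (Z' C' : Submodule F V'),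
          (∀ e, gSum ψ B y X e = gSum ψ B y Z e * gSum ψ B y C e) ∧
          (∀ e, gSum ψ B' y' X' e = gSum ψ B' y' Z' e * gSum ψ B' y' C' e) ∧
          (∀ e, Even e → 0 < e → gSum ψ B y Z e ≠ 0) ∧
          (∀ e, Even e → 0 < e → e ≠ n → gSum ψ B' y' Z' e = gSum ψ B y Z e) ∧
          gSum ψ B y Z n = (Fintype.card F : ℂ) ^ (n - 1) * qSum ψ c ∧
          gSum ψ B' y' Z' n = (Fintype.card F : ℂ) ^ (n - 1) * qSum ψ c' ∧
          finrank F C' = finrank F C ∧ (∀ k, rkPow y X k = (n - k) + rkPow y C k) ∧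
          (∀ e, Even e → 0 < e → gSum ψ B y C e ≠ 0 ∧ (gSum ψ B' y' C' e = gSum ψ B y C e ∨
            (gSum ψ B' y' C' e = -gSum ψ B y C e ∧ rkPow y C (e - 1) + rkPow y C (e + 1) ≠ 2 * rkPow y C e))) ∧
          (c' = c → (∀ e, gSum ψ B' y' Z' e = gSum ψ B y Z e) ∧
            ((∀ e, Even e → 0 < e → gSum ψ B' y' C' e = gSum ψ B y C e) → Matched B y X B' y' X')) ∧
          (∀ k, rkPow y' C' k = rkPow y C k) := by
        intro g g' c c' hg hg' hc hc' hv hv'
        obtain ⟨w, C, hw, hwn, hwg, hCX, hCi, hCn, hZi, hdj, hsup, ho, hdim, hrk⟩ :=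
          single_split hs hA hX hXn h2 hev hn0 hN hg hc hv
        obtain ⟨w', C', hw', hwn', hwg', hCX', hCi', hCn', hZi', hdj', hsup', ho', hdim', hrk'⟩ :=
          single_split hs' hA' hX' hXn' h2 hev hn0 hN' hg' hc' hv'
        have hrC : ∀ k, rkPow y' C' k = rkPow y C k := fun k => by
          have := hr k
          rw [hrk, hrk'] at this
          omega
        obtain ⟨ih1, ih2⟩ := ih _ (by omega) C C' rfl hCi hCn hCi' hCn' hrC
        have hwg0 : ∀ (a b : Fin 1) (k : ℕ), B w ((y ^ k) w) = if k + 1 = n ∧ b = id a then c else 0 := fun a b k => by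
          rw [hwg k, Subsingleton.elim b (id a)]; simp
        have hwg0' : ∀ (a b : Fin 1) (k : ℕ), B' w' ((y' ^ k) w') = if k + 1 = n ∧ b = id a then c' else 0 :=
          fun a b k => by rw [hwg' k, Subsingleton.elim b (id a)]; simp
        refine ⟨_, C, _, C', fun e => ?_, fun e => ?_, fun e he he0 => ?_, fun e he he0 hne => ?_,
          gSum_single_eq ψ hs hn0 hc hwn hwg, gSum_single_eq ψ hs' hn0 hc' hwn' hwg', ?_, hrk, ih1,
          fun hcc => ?_, hrC⟩
        · rw [← hsup]; exact gSum_add ψ hZi hCi hdj ho e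
        · rw [← hsup']; exact gSum_add ψ hZi' hCi' hdj' ho' e
        · by_cases hne : n = e
          · subst hne
            rw [gSum_single_eq ψ hs hn0 hc hwn hwg]
            exact mul_ne_zero (pow_ne_zero _ (Nat.cast_ne_zero.2 Fintype.card_ne_zero)) (qSum_ne_zero hψ h2 hc)
          · exact gSum_chain_ne_zero ψ hs (π := id) Function.injective_id (g := fun _ : Fin 1 => w)
              (c := fun _ => c) (fun _ => hc) (fun _ => hwn) hwg0 he0 hne
        · exact (gSum_chain_ne hs' ψ (π := id) Function.injective_id (g := fun _ : Fin 1 => w') (c := fun _ => c')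
              (fun _ => hc') (fun _ => hwn') hwg0' he0 (Ne.symm hne)).trans
            (gSum_chain_ne hs ψ (π := id) Function.injective_id (g := fun _ : Fin 1 => w) (c := fun _ => c)
              (fun _ => hc) (fun _ => hwn) hwg0 he0 (Ne.symm hne)).symm
        · have h1 := hrC 0
          rwa [rkPow_zero, rkPow_zero] at h1
        · subst hcc
          have hm := chain_matched (B' := B') (y' := y') hs hs' (π := id) Function.injective_id
            (g := fun _ : Fin 1 => w) (g' := fun _ : Fin 1 => w') (c := fun _ => c') (fun _ => hc')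
            (fun _ => hwn) (fun _ => hwn') hwg0 hwg0'
          refine ⟨fun e => gSum_matched ψ hm e, fun h => ?_⟩
          rw [← hsup, ← hsup']
          exact matched_sum hm (ih2 h) hdj hdj' ho ho'
      obtain ⟨g, hg, g', hg', c, hc, c', hc', hv, hv', hone⟩ : ∃ g ∈ X, ∃ g' ∈ X', ∃ c : F, c ≠ 0 ∧ ∃ c' : F, c' ≠ 0 ∧
          B g ((y ^ (n - 1)) g) = c ∧ B' g' ((y' ^ (n - 1)) g') = c' ∧ (2 ≤ rkPow y X (n - 1) → c' = c) := by
        by_cases h2n : 2 ≤ rkPow y X (n - 1)
        · obtain ⟨g, hg, h1⟩ := exists_top_one hs hA h2 hX hXn hev hn0 hN h2n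
          obtain ⟨g', hg', h1'⟩ := exists_top_one hs' hA' h2 hX' hXn' hev hn0 hN' (by rwa [hr])
          exact ⟨g, hg, g', hg', 1, one_ne_zero, 1, one_ne_zero, h1, h1', fun _ => rfl⟩
        · obtain ⟨g, hg, h1⟩ := exists_top_single hs hA h2 hX hXn htop hev hn0
          obtain ⟨g', hg', h1'⟩ := exists_top_single hs' hA' h2 hX' hXn' htop' hev hn0
          exact ⟨g, hg, g', hg', _, h1, _, h1', rfl, rfl, fun h => absurd h h2n⟩
      obtain ⟨Z, C, Z', C', hG, hG', hZ0, hZe, hZn, hZn', hCd, hrk, ih1, hsame, hrC⟩ := key hg hg' hc hc' hv hv'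
      have hlow : c' ≠ c → gSum ψ B y C n = (Fintype.card F : ℂ) ^ finrank F C ∧
          gSum ψ B' y' C' n = (Fintype.card F : ℂ) ^ finrank F C := fun hcc => by
        have h := hrk (n - 1)
        have hC0 : rkPow y C (n - 1) = 0 := by
          by_contra hne
          exact hcc (hone (by omega))
        refine ⟨gSum_low ψ (rkPow_eq_zero.1 hC0) hn0, ?_⟩
        rw [gSum_low ψ (rkPow_eq_zero.1 ((hrC _).trans hC0)) hn0, hCd]
      refine ⟨fun e he he0 => ?_, fun heq => ?_⟩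
      · obtain ⟨hC0, hCc⟩ := ih1 e he he0
        refine ⟨by rw [hG]; exact mul_ne_zero (hZ0 e he he0) hC0, ?_⟩
        have htopJ : e = n → rkPow y X (e - 1) + rkPow y X (e + 1) ≠ 2 * rkPow y X e := by
          rintro rfl
          rw [rkPow_eq_zero.2 hN]
          intro h
          exact htop (rkPow_eq_zero.1 (by omega))
        have hjump : rkPow y C (e - 1) + rkPow y C (e + 1) ≠ 2 * rkPow y C e →
            rkPow y X (e - 1) + rkPow y X (e + 1) ≠ 2 * rkPow y X e := fun h => by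
          by_cases hen : e = n
          · exact htopJ hen
          rw [hrk, hrk, hrk]
          omega
        by_cases hz : gSum ψ B' y' Z' e = gSum ψ B y Z e
        · rw [hG, hG', hz]
          rcases hCc with h | ⟨h, hj⟩
          · exact Or.inl (by rw [h])
          · exact Or.inr ⟨by rw [h, mul_neg], hjump hj⟩
        · obtain rfl : e = n := by
            by_contra hne
            exact hz (hZe e he he0 hne)
          have hcc : c' ≠ c := fun h => hz ((hsame h).1 e)
          obtain ⟨hl, hl'⟩ := hlow hcc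
          rw [hG, hG', hZn, hZn', hl, hl']
          refine (qSum_pm ψ hs hA h2 hψ hc hc').imp (fun h => by rw [h]) fun h => ⟨by rw [h]; ring, htopJ rfl⟩
      · obtain ⟨g2, hg2, hv2⟩ : ∃ g2 ∈ X', B' g2 ((y' ^ (n - 1)) g2) = c := by
          by_cases hcc : c' = c
          · exact ⟨g', hg', hv'.trans hcc⟩
          obtain ⟨hl, hl'⟩ := hlow hcc
          have h := heq n hev hn0
          rw [hG, hG', hZn, hZn', hl, hl'] at h
          have hq : (Fintype.card F : ℂ) ≠ 0 := Nat.cast_ne_zero.2 Fintype.card_ne_zero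
          obtain ⟨t, ht⟩ := (qSum_class hψ h2 hc hc').1
            (mul_left_cancel₀ (pow_ne_zero _ hq) (mul_right_cancel₀ (pow_ne_zero _ hq) h)).symm
          have ht0 : t ≠ 0 := fun h0' => mul_ne_zero hc hc' (by rw [ht, h0', mul_zero])
          refine ⟨(c / t) • g', X'.smul_mem _ hg', ?_⟩
          rw [map_smul, map_smul, map_smul, LinearMap.smul_apply, hv', smul_eq_mul, smul_eq_mul]
          field_simp
          linear_combination ht
        obtain ⟨Z2, C2, Z2', C2', hG2, hG2', hZ02, -, -, -, -, -, -, hsame2, -⟩ := key hg hg2 hc hc hv hv2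
        obtain ⟨hz, hmatch⟩ := hsame2 rfl
        refine hmatch fun e he he0 => mul_left_cancel₀ (hZ02 e he he0) ?_
        have := heq e he he0
        rw [hG2, hG2', hz] at this
        exact this
    · -- odd level
      obtain ⟨u, hu, v, hv, huv⟩ := exists_top_pair hs hA h2 hX hXn htop
      obtain ⟨u', hu', v', hv', huv'⟩ := exists_top_pair hs' hA' h2 hX' hXn' htop'
      obtain ⟨g, hgX, hg⟩ := normal_pair hs hA h2 hX hodd hu hv hN huv
      obtain ⟨g', hgX', hg'⟩ := normal_pair hs' hA' h2 hX' hodd hu' hv' hN' huv'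
      have hc : ∀ a : Fin 2, ![(1 : F), -1] a ≠ 0 := fun a => by fin_cases a <;> simp
      have hπ : Function.Injective (![1, 0] : Fin 2 → Fin 2) := by decide
      have hgn : ∀ a, (y ^ n) (g a) = 0 := fun a => hN _ (hgX a)
      have hgn' : ∀ a, (y' ^ n) (g' a) = 0 := fun a => hN' _ (hgX' a)
      obtain ⟨C, hCX, hCi, hCn, hZi, hdj, hsup, ho, hdim, hrk⟩ := chain_split hs hA hX hXn hπ hc hgX hgn hg rfl
      obtain ⟨C', hCX', hCi', hCn', hZi', hdj', hsup', ho', hdim', hrk'⟩ :=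
        chain_split hs' hA' hX' hXn' hπ hc hgX' hgn' hg' rfl
      have hrC : ∀ k, rkPow y' C' k = rkPow y C k := fun k => by
        have := hr k
        rw [hrk, hrk'] at this
        omega
      obtain ⟨ih1, ih2⟩ := ih _ (by omega) C C' rfl hCi hCn hCi' hCn' hrC
      have hm := chain_matched (B' := B') (y' := y') hs hs' hπ hc hgn hgn' hg hg'
      have hne : ∀ e, Even e → n ≠ e := fun e he h => Nat.not_even_iff_odd.2 hodd (h ▸ he)
      refine ⟨fun e he he0 => ?_, fun heq => ?_⟩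
      · obtain ⟨hC0, hCc⟩ := ih1 e he he0
        have hZ0 := gSum_chain_ne_zero ψ hs hπ hc hgn hg he0 (hne e he)
        rw [← hsup, ← hsup', gSum_add ψ hZi hCi hdj ho, gSum_add ψ hZi' hCi' hdj' ho', gSum_matched ψ hm]
        refine ⟨mul_ne_zero hZ0 hC0, ?_⟩
        rcases hCc with h | ⟨h, hj⟩
        · exact Or.inl (by rw [h])
        · refine Or.inr ⟨by rw [h, mul_neg], ?_⟩
          rw [hsup, hrk, hrk, hrk]
          have := hne e he
          omega
      · rw [← hsup, ← hsup']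
        refine matched_sum hm (ih2 fun e he he0 => ?_) hdj hdj' ho ho'
        refine mul_left_cancel₀ (gSum_chain_ne_zero ψ hs hπ hc hgn hg he0 (hne e he)) ?_
        have h := heq e he he0
        rw [← hsup, ← hsup', gSum_add ψ hZi hCi hdj ho, gSum_add ψ hZi' hCi' hdj' ho', gSum_matched ψ hm] at h
        exact h

end Classify

end CfsgLib.Classical.SpOrderP
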