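/-
Models of skew nilpotent maps for every signed partition.
-/
import Cfsg.Agent.Lib.Classical.SpOrderP.Classify
import Cfsg.Agent.Lib.Classical22.PrimeOrderSympUnipotent

set_option autoImplicit false

namespace CfsgLib.Classical.SpOrderP

open Module CfsgLib.Classical22.PrimeMaps CfsgLib.Classical22.PrimeMaps.Symp CfsgLib.Classical22.NilPart

universe u

variable {F : Type u} [Field F]

/-- The form of a standard block. -/
noncomputable def blockForm (F : Type u) [Field F] {s : ℕ} (n : ℕ) (π : Fin s → Fin s) (c : Fin s → F) :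
    LinearMap.BilinForm F (Fin s × Fin n → F) :=
  Matrix.toBilin' (Matrix.of fun x z : Fin s × Fin n =>
    (-1) ^ (x.2 : ℕ) * if (x.2 : ℕ) + z.2 + 1 = n ∧ z.1 = π x.1 then c x.1 else 0)

theorem block_spec (h2 : (2 : F) ≠ 0) {s n : ℕ} (hn0 : 0 < n) {π : Fin s → Fin s} (hπ : Function.Involutive π)
    {c : Fin s → F} (hsign : ∀ a, (-1) ^ (n - 1) * c (π a) = -c a) :
    (blockForm F n π c).IsAlt ∧
      (∀ a b, blockForm F n π c (shiftCo F (chainNext s n) a) b = -blockForm F n π c a (shiftCo F (chainNext s n) b)) ∧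
      ∃ g : Fin s → Fin s × Fin n → F, (∀ a, (shiftCo F (chainNext s n) ^ n) (g a) = 0) ∧
        (∀ a b k, blockForm F n π c (g a) ((shiftCo F (chainNext s n) ^ k) (g b)) =
          if k + 1 = n ∧ b = π a then c a else 0) ∧
        Submodule.span F (Set.range fun x : Fin s × Fin n => (shiftCo F (chainNext s n) ^ (x.2 : ℕ)) (g x.1)) = ⊤ := by
  classical
  obtain ⟨e, he⟩ : ∃ e : Basis (Fin s × Fin n) F (Fin s × Fin n → F), e = Pi.basisFun F _ := ⟨_, rfl⟩
  obtain ⟨y, hy⟩ : ∃ y, y = shiftCo F (chainNext s n) := ⟨_, rfl⟩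
  have hG : ∀ x z, blockForm F n π c (e x) (e z) =
      (-1) ^ (x.2 : ℕ) * if (x.2 : ℕ) + z.2 + 1 = n ∧ z.1 = π x.1 then c x.1 else 0 := fun x z => by
    rw [he, Pi.basisFun_apply, Pi.basisFun_apply, blockForm, Matrix.toBilin'_single, Matrix.of_apply]
  have hye : ∀ x, y (e x) = (chainNext s n x).elim 0 e := fun x => by
    rw [hy, he, Pi.basisFun_apply, shiftCo, Fintype.linearCombination_apply_single, one_smul]
  have hstep : ∀ (a : Fin s) (i : ℕ) (hi : i < n), y (e (a, ⟨i, hi⟩)) =
      if h : i + 1 < n then e (a, ⟨i + 1, h⟩) else 0 := fun a i hi => by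
    rw [hye, chainNext]
    simp only
    split_ifs <;> rfl
  have hpow : ∀ (a : Fin s) (i : ℕ), (y ^ i) (e (a, ⟨0, hn0⟩)) = if h : i < n then e (a, ⟨i, h⟩) else 0 := by
    intro a i
    induction i with
    | zero => rw [dif_pos hn0]; rfl
    | succ i ih =>
      rw [pow_succ', Module.End.mul_apply, ih]
      by_cases hi : i < n
      · rw [dif_pos hi, hstep]
      · rw [dif_neg hi, map_zero, dif_neg (by omega)]
  have hswap : ∀ x z, blockForm F n π c (e z) (e x) = -blockForm F n π c (e x) (e z) := by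
    rintro ⟨a, i⟩ ⟨b, j⟩
    rw [hG, hG]
    simp only
    by_cases h : (i : ℕ) + j + 1 = n ∧ b = π a
    · obtain ⟨h1, rfl⟩ := h
      rw [if_pos (show (j : ℕ) + i + 1 = n ∧ a = π (π a) from ⟨by omega, (hπ a).symm⟩), if_pos ⟨h1, rfl⟩]
      have hs1 : ((-1 : F)) ^ (j : ℕ) = (-1) ^ (i : ℕ) * (-1) ^ (n - 1) := by
        rw [show n - 1 = (i : ℕ) + j by omega, pow_add, ← mul_assoc, ← pow_add, ← two_mul, pow_mul]
        simp
      linear_combination (c (π a)) * hs1 + (-1 : F) ^ (i : ℕ) * hsign a
    · rw [if_neg h, if_neg (fun h' => h ⟨by omega, by simp only [h'.2]; exact (hπ b).symm⟩)]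
      simp
  refine ⟨fun v => ?_, fun a b => ?_, fun a => e (a, ⟨0, hn0⟩), fun a => ?_, fun a b k => ?_, ?_⟩
  · have h : (blockForm F n π c).flip = -blockForm F n π c := LinearMap.BilinForm.ext_basis e fun x z => by
      simpa using hswap x z
    have h' : blockForm F n π c v v = -blockForm F n π c v v :=
      congrArg (fun D : LinearMap.BilinForm F (Fin s × Fin n → F) => D v v) h
    exact (mul_eq_zero.1 (show (2 : F) * blockForm F n π c v v = 0 by linear_combination h')).resolve_left h2
  · have h : (blockForm F n π c).comp y LinearMap.id = -((blockForm F n π c).comp LinearMap.id y) :=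
      LinearMap.BilinForm.ext_basis e fun x z => by
      obtain ⟨a, i⟩ := x
      obtain ⟨b, j⟩ := z
      simp only [LinearMap.BilinForm.comp_apply, LinearMap.id_apply, LinearMap.neg_apply]
      rw [show e (a, i) = e (a, ⟨(i : ℕ), i.2⟩) from rfl, show e (b, j) = e (b, ⟨(j : ℕ), j.2⟩) from rfl, hstep, hstep]
      split_ifs with h1 h3 h3
      · rw [hG, hG]
        simp only
        by_cases hc' : (i : ℕ) + 1 + j + 1 = n ∧ b = π a
        · rw [if_pos hc', if_pos ⟨by omega, hc'.2⟩, pow_succ]; ring
        · rw [if_neg hc', if_neg fun h => hc' ⟨by omega, h.2⟩]; ring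
      · rw [hG, if_neg fun h => by have := h.1; simp only at this; omega]
        simp
      · rw [hG, if_neg fun h => by have := h.1; simp only at this; omega]
        simp
      · simp
    simpa [hy] using congrArg (fun D : LinearMap.BilinForm F (Fin s × Fin n → F) => D a b) h
  · rw [← hy, hpow, dif_neg (lt_irrefl n)]
  · rw [← hy, hpow]
    by_cases hk : k < n
    · rw [dif_pos hk, hG]
      simp
    · rw [dif_neg hk, map_zero, if_neg fun h => hk (by omega)]
  · rw [← hy, show (fun x : Fin s × Fin n => (y ^ (x.2 : ℕ)) (e (x.1, ⟨0, hn0⟩))) = e from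
      funext fun x => by rw [hpow, dif_pos x.2.2]]
    exact e.span_eq

section Sums

variable [Fintype F]

open scoped _root_.Classical in
theorem gSum_prod (ψ : AddChar F ℂ) {V W : Type u} [AddCommGroup V] [Module F V] [Fintype V] [AddCommGroup W]
    [Module F W] [Fintype W] (B : LinearMap.BilinForm F V) (C : LinearMap.BilinForm F W) (y : Module.End F V)
    (z : Module.End F W) (e : ℕ) :
    gSum ψ (B.compl₁₂ (LinearMap.fst F V W) (LinearMap.fst F V W) + C.compl₁₂ (LinearMap.snd F V W) (LinearMap.snd F V W))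
      (y.prodMap z) ⊤ e = gSum ψ B y ⊤ e * gSum ψ C z ⊤ e := by
  have hp : ∀ (k : ℕ) (x : V × W), ((y.prodMap z) ^ k) x = ((y ^ k) x.1, (z ^ k) x.2) := by
    intro k
    induction k with
    | zero => intro x; rfl
    | succ k ih => intro x; rw [pow_succ', Module.End.mul_apply, ih, pow_succ', pow_succ']; rfl
  simp only [gSum, Submodule.mem_top, true_and]
  rw [Finset.sum_mul_sum, ← Finset.sum_product']
  refine Finset.sum_congr (Finset.ext fun x => by simp [hp, Prod.ext_iff]) fun x _ => ?_
  rw [← AddChar.map_add_eq_mul, hp]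
  rfl

/-- Every signed partition occurs. -/
theorem exists_model (h2 : (2 : F) ≠ 0) {ψ : AddChar F ℂ} (hψ : ψ.IsPrimitive) {δ : F} (hδ : ¬IsSquare δ) :
    ∀ μ : Multiset ℕ, (∀ a ∈ μ, 0 < a) → OddPaired μ → ∃ R : ℕ → ℂ, ∀ A : Finset ℕ,
      ∃ (W : Type u) (_ : AddCommGroup W) (_ : Module F W) (_ : Fintype W) (B : LinearMap.BilinForm F W)
        (y : Module.End F W), B.IsAlt ∧ (∀ a b, B (y a) b = -B a (y b)) ∧ Nd B ⊤ ∧
        (∀ k, rkPow y ⊤ k = prank μ k) ∧
        ∀ e, Even e → 0 < e → gSum ψ B y ⊤ e = (if e ∈ A ∧ e ∈ μ then -1 else 1) * R e := by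
  classical
  intro μ
  induction μ using Multiset.strongInductionOn with
  | _ μ ih =>
    intro hpos hμ
    by_cases h0 : μ = 0
    · subst h0
      refine ⟨fun _ => 1, fun A => ⟨PUnit.{u + 1}, inferInstance, inferInstance, inferInstance, 0, 0, fun _ => rfl,
        fun a b => by simp, fun u _ _ => Subsingleton.elim _ _, fun k => ?_, fun e _ _ => ?_⟩⟩
      · rw [rkPow, Module.finrank_zero_of_subsingleton]; simp [prank]
      · rw [Subsingleton.elim (⊤ : Submodule F PUnit.{u + 1}) ⊥, gSum_bot]
        simp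
    obtain ⟨a, ha⟩ := Multiset.exists_mem_of_ne_zero h0
    have ha0 := hpos a ha
    -- prepend a block
    have step : ∀ (s : ℕ) (π : Fin s → Fin s) (ν : Multiset ℕ), 0 < s → Function.Involutive π →
        μ = Multiset.replicate s a + ν → OddPaired ν → ∀ (cf : Finset ℕ → Fin s → F) (Rb : ℕ → ℂ),
        (∀ A i, cf A i ≠ 0) → (∀ A i, (-1) ^ (a - 1) * cf A (π i) = -cf A i) →
        (∀ (A : Finset ℕ) (g : Fin s → Fin s × Fin a → F),
          (∀ i, (shiftCo F (chainNext s a) ^ a) (g i) = 0) →
          (∀ i j k, blockForm F a π (cf A) (g i) ((shiftCo F (chainNext s a) ^ k) (g j)) =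
            if k + 1 = a ∧ j = π i then cf A i else 0) →
          Submodule.span F (Set.range fun x : Fin s × Fin a => (shiftCo F (chainNext s a) ^ (x.2 : ℕ)) (g x.1)) = ⊤ →
          (∀ v w, blockForm F a π (cf A) (shiftCo F (chainNext s a) v) w =
            -blockForm F a π (cf A) v (shiftCo F (chainNext s a) w)) →
          ∀ e, Even e → 0 < e →
          gSum ψ (blockForm F a π (cf A)) (shiftCo F (chainNext s a)) ⊤ e * (if e ∈ A ∧ e ∈ ν then -1 else 1) =
            (if e ∈ A ∧ e ∈ μ then -1 else 1) * Rb e) →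
        ∃ R : ℕ → ℂ, ∀ A : Finset ℕ,
          ∃ (W : Type u) (_ : AddCommGroup W) (_ : Module F W) (_ : Fintype W) (B : LinearMap.BilinForm F W)
            (y : Module.End F W), B.IsAlt ∧ (∀ a b, B (y a) b = -B a (y b)) ∧ Nd B ⊤ ∧
            (∀ k, rkPow y ⊤ k = prank μ k) ∧
            ∀ e, Even e → 0 < e → gSum ψ B y ⊤ e = (if e ∈ A ∧ e ∈ μ then -1 else 1) * R e := by
      intro s π ν hs hπ hμν hν cf Rb hc hsign hblk
      have hlt : ν < μ := by
        rw [hμν]
        refine lt_of_le_of_ne (Multiset.le_add_left _ _) fun h => ?_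
        have := congrArg Multiset.card h
        rw [Multiset.card_add, Multiset.card_replicate] at this
        omega
      obtain ⟨R, hR⟩ := ih ν hlt (fun b hb => hpos b (Multiset.mem_of_le hlt.le hb)) hν
      refine ⟨fun e => Rb e * R e, fun A => ?_⟩
      obtain ⟨W, iW1, iW2, iW3, B, y, hA, hsk, hnd, hrk, hg⟩ := hR A
      obtain ⟨hbA, hbs, g, hgn, hgg, hspan⟩ := block_spec h2 ha0 hπ (hsign A)
      have hbn : Nd (blockForm F a π (cf A)) ⊤ := hspan ▸ (chain_frame hbs hπ.injective (hc A) hgg).2
      refine ⟨(Fin s × Fin a → F) × W, inferInstance, inferInstance, inferInstance,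
        (blockForm F a π (cf A)).compl₁₂ (LinearMap.fst F _ W) (LinearMap.fst F _ W) +
          B.compl₁₂ (LinearMap.snd F (Fin s × Fin a → F) W) (LinearMap.snd F (Fin s × Fin a → F) W),
        (shiftCo F (chainNext s a)).prodMap y, fun x => ?_, fun x z => ?_, fun x _ hx => ?_, fun k => ?_, fun e he he0 => ?_⟩
      · simp [hbA x.1, hA x.2]
      · simp [hbs x.1 z.1, hsk x.2 z.2, add_comm]
      · refine Prod.ext (hbn x.1 Submodule.mem_top fun v _ => ?_) (hnd x.2 Submodule.mem_top fun v _ => ?_)
        · simpa using hx (v, 0) Submodule.mem_top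
        · simpa using hx (0, v) Submodule.mem_top
      · have hp : ((shiftCo F (chainNext s a)).prodMap y) ^ k = (shiftCo F (chainNext s a) ^ k).prodMap (y ^ k) := by
          induction k with
          | zero => rfl
          | succ k ihk => rw [pow_succ, pow_succ, pow_succ, ihk]; rfl
        have h1 := chain_rank hbs hπ.injective (hc A) hgn hgg k
        rw [hspan, Submodule.map_top] at h1
        have h2' := hrk k
        rw [rkPow, Submodule.map_top] at h2' ⊢
        rw [hp, finrank_range_prodMap, h1, h2', hμν, prank_add]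
        simp [prank]
      · rw [gSum_prod, hg e he he0, ← mul_assoc, hblk A g hgn hgg hspan hbs e he he0]
        ring
    rcases Nat.even_or_odd a with hev | hodd
    · obtain ⟨ν, rfl⟩ := Multiset.exists_cons_of_mem ha
      have hδ0 : δ ≠ 0 := fun h => hδ ⟨0, by rw [h, mul_zero]⟩
      refine step 1 id ν one_pos (fun i => rfl) (by simp) (fun b hb => ?_)
        (fun A _ => if a ∈ A ∧ a ∉ ν then δ else 1)
        (fun e => if e = a then (Fintype.card F : ℂ) ^ (a - 1) * qSum ψ 1
          else ((Finset.univ.filter fun z : Fin 1 × Fin a → F => (shiftCo F (chainNext 1 a) ^ e) z = 0).card : ℂ))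
        (fun A i => by split_ifs <;> [exact hδ0; exact one_ne_zero])
        (fun A i => by
          rw [Nat.Even.sub_odd (by omega) hev odd_one |>.neg_one_pow]
          simp only [neg_mul, one_mul]) ?_
      · have h := hμ b hb
        rw [Multiset.count_cons_of_ne (fun h => (Nat.not_even_iff_odd.2 hb) (by rw [h]; exact hev))] at h
        exact h
      intro A g hgn hgg hspan hbs e he he0
      by_cases hea : e = a
      · subst hea
        have hgz : (fun x : Fin 1 × Fin e => (shiftCo F (chainNext 1 e) ^ (x.2 : ℕ)) (g x.1)) =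
            fun x : Fin 1 × Fin e => (shiftCo F (chainNext 1 e) ^ (x.2 : ℕ)) (g 0) :=
          funext fun x => by rw [Subsingleton.elim x.1 0]
        rw [if_pos rfl, ← hspan, hgz, gSum_single_eq ψ hbs he0 (c := if e ∈ A ∧ e ∉ ν then δ else 1)
          (by split_ifs <;> [exact hδ0; exact one_ne_zero]) (hgn 0) (fun k => by simpa using hgg 0 0 k)]
        simp only [Multiset.mem_cons_self, and_true]
        by_cases hA : e ∈ A <;> by_cases hν : e ∈ ν <;> simp [hA, hν, qSum_flip hψ h2 hδ]
      · rw [if_neg hea, ← hspan, gSum_chain_ne hbs ψ Function.injective_id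
          (fun i => by split_ifs <;> [exact hδ0; exact one_ne_zero]) hgn hgg he0 (Ne.symm hea)]
        simp only [Multiset.mem_cons, hea, false_or]
        ring
    · obtain ⟨ν, hν⟩ : ∃ ν, μ = Multiset.replicate 2 a + ν := by
        have h := hμ a hodd
        have hc := Multiset.count_pos.2 ha
        have hle : Multiset.replicate 2 a ≤ μ := Multiset.le_count_iff_replicate_le.1 (by obtain ⟨i, hi⟩ := h; omega)
        exact ⟨μ - Multiset.replicate 2 a, (add_tsub_cancel_of_le hle).symm⟩
      have hc : ∀ i : Fin 2, ![(1 : F), -1] i ≠ 0 := fun i => by fin_cases i <;> simp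
      have hev : Even (a - 1) := by obtain ⟨i, hi⟩ := hodd; exact ⟨i, by omega⟩
      have hinv : Function.Involutive (![1, 0] : Fin 2 → Fin 2) := fun i => by fin_cases i <;> rfl
      refine step 2 ![1, 0] ν two_pos hinv hν (fun b hb => ?_) (fun _ => ![1, -1])
        (fun e => ((Finset.univ.filter fun z : Fin 2 × Fin a → F => (shiftCo F (chainNext 2 a) ^ e) z = 0).card : ℂ))
        (fun _ => hc) (fun A i => by rw [hev.neg_one_pow]; fin_cases i <;> simp) ?_
      · have h := hμ b hb
        rw [hν, Multiset.count_add, Nat.even_add, Multiset.count_replicate] at h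
        exact h.1 (by split_ifs <;> decide)
      intro A g hgn hgg hspan hbs e he he0
      have hea : a ≠ e := fun h => Nat.not_even_iff_odd.2 hodd (h ▸ he)
      rw [← hspan, gSum_chain_ne hbs ψ (π := ![1, 0]) hinv.injective hc hgn hgg he0 hea]
      have hmem : e ∈ μ ↔ e ∈ ν := by
        rw [hν, Multiset.mem_add, Multiset.mem_replicate]
        exact ⟨fun h => h.resolve_left fun h => hea h.2.symm, Or.inr⟩
      simp only [hmem]
      ring

end Sums

end CfsgLib.Classical.SpOrderP
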