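/-
Counting the classes of symplectic elements of odd prime order equal to the characteristic.
-/
import Cfsg.Agent.Lib.Classical.SpOrderP.Models
import Cfsg.Agent.Lib.Classical.SpOrderP.Cayley
import Cfsg.Agent.Lib.Classical.SpSplit

set_option autoImplicit false

namespace CfsgLib.Classical.SpOrderP

open Module CfsgLib.Classical CfsgLib.Classical22.PrimeMaps CfsgLib.Classical22.PrimeMaps.Symp CfsgLib.Classical22.NilPart

universe u

variable {F : Type u} [Field F]

theorem equiv_transport {V V' : Type u} [AddCommGroup V] [Module F V] [Fintype V] [AddCommGroup V'] [Module F V']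
    [Fintype V'] (ψ : AddChar F ℂ) {B : LinearMap.BilinForm F V} {B' : LinearMap.BilinForm F V'} {y : Module.End F V}
    {y' : Module.End F V'} (e : V ≃ₗ[F] V') (hB : ∀ a b, B' (e a) (e b) = B a b) (hy : ∀ x, y' (e x) = e (y x)) :
    (∀ n, gSum ψ B' y' ⊤ n = gSum ψ B y ⊤ n) ∧ ∀ k, rkPow y' ⊤ k = rkPow y ⊤ k := by
  classical
  have hp : ∀ k x, (y' ^ k) (e x) = e ((y ^ k) x) := by
    intro k
    induction k with
    | zero => intro x; rfl
    | succ k ih => intro x; rw [pow_succ', pow_succ', Module.End.mul_apply, Module.End.mul_apply, ih, hy]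
  refine ⟨fun n => ?_, fun k => ?_⟩
  · symm
    refine Finset.sum_bij' (fun x _ => e x) (fun x _ => e.symm x) (fun x hx => ?_) (fun x hx => ?_)
      (fun x _ => e.symm_apply_apply x) (fun x _ => e.apply_symm_apply x) fun x _ => by rw [hp, hB]
    · simp only [Finset.mem_filter, Finset.mem_univ, Submodule.mem_top, true_and] at hx ⊢
      rw [hp, hx, map_zero]
    · simp only [Finset.mem_filter, Finset.mem_univ, Submodule.mem_top, true_and] at hx ⊢
      refine e.injective ?_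
      rw [← hp, e.apply_symm_apply, hx, map_zero]
  · have h : (⊤ : Submodule F V').map (y' ^ k) = ((⊤ : Submodule F V).map (y ^ k)).map (e : V →ₗ[F] V') := by
      rw [← Submodule.map_comp, show (e : V →ₗ[F] V') ∘ₗ (y ^ k) = (y' ^ k) ∘ₗ (e : V →ₗ[F] V') from
        LinearMap.ext fun x => (hp k x).symm, Submodule.map_comp, Submodule.map_top (f := (e : V →ₗ[F] V')),
        LinearEquiv.range]
    rw [rkPow, rkPow, h]
    exact LinearEquiv.finrank_map_eq e _

variable [Fintype F] {m : ℕ} {p : ℕ} [Fact p.Prime] [CharP F p]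

open scoped _root_.Classical in
/-- The classes of elements with `g ^ p = 1`, counted by signed partitions, less the class of the identity. -/
theorem class_count (hp : p ≠ 2) :
    Nat.card {C : ConjClasses ↥(Matrix.symplecticGroup (Fin m) F) //
      ∃ g : Matrix.symplecticGroup (Fin m) F, ConjClasses.mk g = C ∧ orderOf g = p} =
    (∑ μ ∈ Finset.univ.filter (fun μ : Nat.Partition (2 * m) =>
        (∀ a ∈ μ.parts, a ≤ p) ∧ ∀ j : ℕ, Odd j → Even (μ.parts.count j)),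
      2 ^ ((μ.parts.toFinset.filter (fun j : ℕ => Even j)).card)) - 1 := by
  have h2 : (2 : F) ≠ 0 := fun h => by
    have h' : ((2 : ℕ) : F) = 0 := by exact_mod_cast h
    rw [CharP.cast_eq_zero_iff F p] at h'
    exact hp ((Nat.prime_dvd_prime_iff_eq Fact.out Nat.prime_two).1 h')
  obtain ⟨ψ, hψ⟩ := exists_addChar (F := F)
  obtain ⟨δ, hδ⟩ := FiniteField.exists_nonsquare (F := F) (fun h => h2 (by
    haveI : CharP F 2 := ringChar.of_eq h
    exact_mod_cast CharP.cast_eq_zero F 2))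
  obtain ⟨B, hBd⟩ : ∃ B, B = spBilin m F := ⟨_, rfl⟩
  have hA : B.IsAlt := hBd ▸ spBilin_isAlt
  have hnd : Nd B ⊤ := hBd ▸ nd_top
  obtain ⟨f, hf⟩ : ∃ f : Matrix.symplecticGroup (Fin m) F → Module.End F (Fin m ⊕ Fin m → F),
      ∀ g, f g = Matrix.toLinAlgEquiv' (g : Matrix (Fin m ⊕ Fin m) (Fin m ⊕ Fin m) F) := ⟨_, fun g => rfl⟩
  have hfinj : Function.Injective f := fun g g' h => Subtype.ext (Matrix.toLinAlgEquiv'.injective (by rw [← hf, ← hf, h]))
  have hfmul : ∀ g g', f (g * g') = f g * f g' := fun g g' => by rw [hf, hf, hf, Submonoid.coe_mul, map_mul]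
  have hfone : f 1 = 1 := by rw [hf, OneMemClass.coe_one, map_one]
  have hfpow : ∀ g (k : ℕ), f (g ^ k) = f g ^ k := fun g k => by rw [hf, hf, SubmonoidClass.coe_pow, map_pow]
  have hiso : ∀ g a b, B (f g a) (f g b) = B a b := fun g a b => by
    rw [hBd, spBilin_apply, spBilin_apply, hf, Matrix.toLinAlgEquiv'_apply, Matrix.toLinAlgEquiv'_apply]
    exact sp_form g a b
  have hof : ∀ φ : Module.End F (Fin m ⊕ Fin m → F), (∀ a b, B (φ a) (φ b) = B a b) → ∃ g, f g = φ := fun φ hφ => by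
    obtain ⟨x, hx⟩ := spMk_exists φ (by simpa [hBd] using hφ)
    exact ⟨x, LinearMap.ext fun v => by rw [hf, Matrix.toLinAlgEquiv'_apply, hx]⟩
  have hunip : ∀ g, g ^ p = 1 ↔ (f g - 1) ^ p = 0 := fun g => by
    rw [sub_one_pow, ← hfpow, sub_eq_zero]
    exact ⟨fun h => by rw [h, hfone], fun h => hfinj (h.trans hfone.symm)⟩
  -- the invariants
  have hinv : ∀ g g', g ^ p = 1 → IsConj g g' → g' ^ p = 1 ∧
      (∀ n, gSum ψ B (cay (f g')) ⊤ n = gSum ψ B (cay (f g)) ⊤ n) ∧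
      ∀ k, rkPow (cay (f g')) ⊤ k = rkPow (cay (f g)) ⊤ k := fun g g' hg hc => by
    obtain ⟨c, rfl⟩ := isConj_iff.1 hc
    have hg' : (c * g * c⁻¹) ^ p = 1 := by rw [conj_pow, hg, mul_one, mul_inv_cancel]
    refine ⟨hg', ?_⟩
    have hcc : f c * cay (f g) = cay (f (c * g * c⁻¹)) * f c := by
      rw [cay_intertwine h2 ((hunip g).1 hg) ((hunip _).1 hg'), ← hfmul, ← hfmul, inv_mul_cancel_right]
    exact equiv_transport ψ (LinearEquiv.ofLinear (f c) (f c⁻¹)
      (by rw [← Module.End.mul_eq_comp, ← hfmul, mul_inv_cancel, hfone]; rfl)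
      (by rw [← Module.End.mul_eq_comp, ← hfmul, inv_mul_cancel, hfone]; rfl))
      (fun a b => hiso c a b) (fun x => (LinearMap.congr_fun hcc x).symm)
  have hskew : ∀ g, g ^ p = 1 → ∀ a b, B (cay (f g) a) b = -B a (cay (f g) b) := fun g hg =>
    cay_skew h2 ((hunip g).1 hg) (hiso g)
  have hInv : ∀ y : Module.End F (Fin m ⊕ Fin m → F), Inv y ⊤ := fun y _ _ => Submodule.mem_top
  have hsame : ∀ g g', g ^ p = 1 → g' ^ p = 1 → (∀ k, rkPow (cay (f g')) ⊤ k = rkPow (cay (f g)) ⊤ k) →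
      (∀ e, Even e → 0 < e → gSum ψ B (cay (f g')) ⊤ e = gSum ψ B (cay (f g)) ⊤ e) → IsConj g g' := fun g g' hg hg' hr hG => by
    obtain ⟨φ, hφ, hφy⟩ := matched_map ((classify (hskew g hg) hA (hskew g' hg') hA h2 hψ
      (cay_pow h2 ((hunip g).1 hg)).1 _ ⊤ ⊤ rfl (hInv _) hnd (hInv _) hnd hr).2 hG)
    obtain ⟨c, hc⟩ := hof ((Submodule.topEquiv.symm.trans (φ.trans Submodule.topEquiv)).toLinearMap) fun a b => by
      exact hφ ⟨a, Submodule.mem_top⟩ ⟨b, Submodule.mem_top⟩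
    refine isConj_iff.2 ⟨c, ?_⟩
    have h1 : f c * cay (f g) = cay (f g') * f c := by
      rw [hc]
      exact LinearMap.ext fun x => (hφy ⟨x, Submodule.mem_top⟩ Submodule.mem_top).symm
    rw [cay_intertwine h2 ((hunip g).1 hg) ((hunip g').1 hg'), ← hfmul, ← hfmul] at h1
    rw [hfinj h1, mul_inv_cancel_right]
  -- representatives
  have hmodel : ∀ μ : Nat.Partition (2 * m), ∃ R : ℕ → ℂ,
      ((∀ a ∈ μ.parts, a ≤ p) ∧ ∀ j : ℕ, Odd j → Even (μ.parts.count j)) → ∀ A : Finset ℕ,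
        ∃ g, g ^ p = 1 ∧ (∀ k, rkPow (cay (f g)) ⊤ k = prank μ.parts k) ∧
          ∀ e, Even e → 0 < e → gSum ψ B (cay (f g)) ⊤ e = (if e ∈ A ∧ e ∈ μ.parts then -1 else 1) * R e := by
    intro μ
    by_cases hv : (∀ a ∈ μ.parts, a ≤ p) ∧ ∀ j : ℕ, Odd j → Even (μ.parts.count j)
    swap; · exact ⟨0, fun h => absurd h hv⟩
    obtain ⟨R, hR⟩ := exists_model (F := F) h2 hψ hδ μ.parts (fun a ha => μ.parts_pos ha) hv.2
    refine ⟨R, fun _ A => ?_⟩
    obtain ⟨W, iW1, iW2, iW3, BW, y, hWA, hWs, hWn, hWr, hWG⟩ := hR A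
    obtain ⟨d, hd, e, he⟩ := exists_symp_equiv BW hWA (fun v hv => hWn v Submodule.mem_top fun w _ => hv w)
    have hd2 : finrank F W = 2 * m := by
      have := hWr 0
      rw [rkPow_zero, finrank_top, prank] at this
      simp only [tsub_zero, Multiset.map_id'] at this
      rw [this, μ.parts_sum]
    obtain rfl : d = m := by omega
    have hyp : y ^ p = 0 := LinearMap.ext fun x => rkPow_eq_zero.1 (by
      rw [hWr, prank, Multiset.sum_eq_zero]
      intro b hb
      obtain ⟨a, ha, rfl⟩ := Multiset.mem_map.1 hb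
      exact Nat.sub_eq_zero_of_le (hv.1 a ha)) x Submodule.mem_top
    have he' : ∀ a b, BW (e a) (e b) = B a b := fun a b => by rw [he, hBd, spBilin_apply]
    obtain ⟨f0, hf0, hf0B, hf0y⟩ := exists_cay h2 (y := e.symm.conjAlgEquiv F y) (p := p)
      (by rw [← map_pow, hyp, map_zero]) (B := B) (fun a b => by
        rw [← he', ← he']
        simp [hWs])
    obtain ⟨g, rfl⟩ := hof f0 hf0B
    refine ⟨g, (hunip g).2 hf0, ?_⟩
    obtain ⟨t1, t2⟩ := equiv_transport ψ (y := cay (f g)) (y' := y) e he' fun x => by rw [hf0y]; simp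
    exact ⟨fun k => (t2 k).symm.trans (hWr k), fun n hn hn0 => (t1 n).symm.trans (hWG n hn hn0)⟩
  choose R hR using hmodel
  obtain ⟨T, hT⟩ : ∃ T, T = (Finset.univ.filter fun μ : Nat.Partition (2 * m) =>
      (∀ a ∈ μ.parts, a ≤ p) ∧ ∀ j : ℕ, Odd j → Even (μ.parts.count j)).sigma
        fun μ => (μ.parts.toFinset.filter fun j : ℕ => Even j).powerset := ⟨_, rfl⟩
  have hcard : T.card = ∑ μ ∈ Finset.univ.filter (fun μ : Nat.Partition (2 * m) =>
      (∀ a ∈ μ.parts, a ≤ p) ∧ ∀ j : ℕ, Odd j → Even (μ.parts.count j)),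
      2 ^ ((μ.parts.toFinset.filter (fun j : ℕ => Even j)).card) := by
    rw [hT, Finset.card_sigma]
    exact Finset.sum_congr rfl fun μ _ => Finset.card_powerset _
  have hmemT : ∀ x, x ∈ T → ((∀ a ∈ x.1.parts, a ≤ p) ∧ ∀ j : ℕ, Odd j → Even (x.1.parts.count j)) ∧
      ∀ e ∈ x.2, Even e ∧ e ∈ x.1.parts := fun x hx => by
    rw [hT, Finset.mem_sigma, Finset.mem_filter, Finset.mem_powerset] at hx
    exact ⟨hx.1.2, fun e he => by
      have := Finset.mem_filter.1 (hx.2 he)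
      exact ⟨this.2, Multiset.mem_toFinset.1 this.1⟩⟩
  have hrep : ∀ x : (μ : Nat.Partition (2 * m)) × Finset ℕ, ∃ g, x ∈ T → g ^ p = 1 ∧
      (∀ k, rkPow (cay (f g)) ⊤ k = prank x.1.parts k) ∧
      ∀ e, Even e → 0 < e → gSum ψ B (cay (f g)) ⊤ e = (if e ∈ x.2 ∧ e ∈ x.1.parts then -1 else 1) * R x.1 e := fun x => by
    by_cases hx : x ∈ T
    · obtain ⟨g, hg⟩ := hR x.1 (hmemT x hx).1 x.2
      exact ⟨g, fun _ => hg⟩
    · exact ⟨1, fun h => absurd h hx⟩
  choose g hg using hrep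
  have hR0 : ∀ x ∈ T, ∀ e, Even e → 0 < e → R x.1 e ≠ 0 := fun x hx e he he0 h0 => by
    obtain ⟨h1, -, h3⟩ := hg x hx
    have h := ((classify (hskew _ h1) hA (hskew _ h1) hA h2 hψ
      (cay_pow h2 ((hunip _).1 h1)).1 _ ⊤ ⊤ rfl (hInv _) hnd (hInv _) hnd fun k => rfl).1 e he he0).1
    rw [h3 e he he0, h0, mul_zero] at h
    exact h rfl
  obtain ⟨Φ, hΦ⟩ : ∃ Φ : (μ : Nat.Partition (2 * m)) × Finset ℕ → ConjClasses (Matrix.symplecticGroup (Fin m) F),
      ∀ x, Φ x = ConjClasses.mk (g x) := ⟨_, fun x => rfl⟩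
  have hinjOn : Set.InjOn Φ T := by
    intro x hx x' hx' heq
    rw [hΦ, hΦ, ConjClasses.mk_eq_mk_iff_isConj] at heq
    obtain ⟨h1, h3, h4⟩ := hg x hx
    obtain ⟨h1', h3', h4'⟩ := hg x' hx'
    obtain ⟨-, i2, i3⟩ := hinv _ _ h1 heq
    obtain ⟨μ, A⟩ := x
    obtain ⟨μ', A'⟩ := x'
    obtain rfl : μ = μ' := Nat.Partition.ext (eq_of_prank (fun a ha => μ.parts_pos ha) (fun a ha => μ'.parts_pos ha)
      fun k => by rw [← h3, ← h3', i3])
    refine congrArg (Sigma.mk μ) (Finset.ext fun e => ?_)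
    by_cases hev : Even e ∧ e ∈ μ.parts
    · have h := i2 e
      rw [h4 e hev.1 (μ.parts_pos hev.2), h4' e hev.1 (μ.parts_pos hev.2)] at h
      have h0 := hR0 _ hx e hev.1 (μ.parts_pos hev.2)
      simp only [hev.2, and_true] at h
      have h' := mul_right_cancel₀ h0 h
      constructor <;> intro ha <;> by_contra ha' <;> simp only [ha, ha', if_true, if_false] at h' <;> norm_num at h' 
    · exact ⟨fun h => absurd ((hmemT _ hx).2 e h) hev, fun h => absurd ((hmemT _ hx').2 e h) hev⟩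
  have himg : {C | ∃ g : Matrix.symplecticGroup (Fin m) F, ConjClasses.mk g = C ∧ g ^ p = 1} = Φ '' ↑T := by
    ext C
    constructor
    · rintro ⟨h, rfl, hh⟩
      have hN := (hunip h).1 hh
      obtain ⟨ν, hν1, hν2, hν3, hν4, -⟩ := unip_partition (f := f h) (p := p) h2 hA (hiso h) ⊤
        (fun _ _ => Submodule.mem_top) hnd fun x _ => by rw [hN]; rfl
      have hsum : ν.sum = 2 * m := by rw [hν3, finrank_top, finrank_std]
      obtain ⟨μ, hμ⟩ : ∃ μ : Nat.Partition (2 * m), μ.parts = ν := ⟨⟨ν, fun h => (hν1 _ h).1, hsum⟩, rfl⟩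
      have hrk : ∀ k, rkPow (cay (f h)) ⊤ k = prank μ.parts k := fun k => by
        rw [hμ, ← hν4, rkPow, Submodule.map_top, Submodule.map_top, (cay_pow h2 hN).2]
      have hv : (∀ a ∈ μ.parts, a ≤ p) ∧ ∀ j : ℕ, Odd j → Even (μ.parts.count j) :=
        ⟨fun a ha => (hν1 a (hμ ▸ ha)).2, hμ ▸ hν2⟩
      have hT0 : (⟨μ, ∅⟩ : (μ : Nat.Partition (2 * m)) × Finset ℕ) ∈ T := by
        rw [hT, Finset.mem_sigma, Finset.mem_filter]
        exact ⟨⟨Finset.mem_univ _, hv⟩, Finset.empty_mem_powerset _⟩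
      obtain ⟨q1, q2, q3⟩ := hg _ hT0
      obtain ⟨A, hAd⟩ : ∃ A, A = (μ.parts.toFinset.filter fun j : ℕ => Even j).filter fun e =>
          gSum ψ B (cay (f h)) ⊤ e ≠ R μ e := ⟨_, rfl⟩
      have hTA : (⟨μ, A⟩ : (μ : Nat.Partition (2 * m)) × Finset ℕ) ∈ T := by
        rw [hT, Finset.mem_sigma, Finset.mem_filter, Finset.mem_powerset]
        exact ⟨⟨Finset.mem_univ _, hv⟩, hAd ▸ Finset.filter_subset _ _⟩
      obtain ⟨a1, a2, a3⟩ := hg _ hTA
      refine ⟨⟨μ, A⟩, hTA, ?_⟩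
      rw [hΦ, ConjClasses.mk_eq_mk_iff_isConj]
      refine hsame _ _ a1 hh (fun k => (hrk k).trans (a2 k).symm) fun e he he0 => ?_
      rw [a3 e he he0]
      have hc := ((classify (hskew _ q1) hA (hskew _ hh) hA h2 hψ (cay_pow h2 ((hunip _).1 q1)).1 _ ⊤ ⊤ rfl
        (hInv _) hnd (hInv _) hnd fun k => (hrk k).trans (q2 k).symm).1 e he he0).2
      simp only [q3 e he he0, Finset.notMem_empty, false_and, if_false, one_mul, q2] at hc
      have hjump : prank μ.parts (e - 1) + prank μ.parts (e + 1) ≠ 2 * prank μ.parts e → e ∈ μ.parts := fun hne => by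
        have := prank_count (μ := μ.parts) he0
        exact Multiset.one_le_count_iff_mem.1 (by omega)
      rcases hc with hc | ⟨hc, hj⟩
      · rw [if_neg, one_mul, hc]
        rintro ⟨hA1, -⟩
        rw [hAd, Finset.mem_filter] at hA1
        exact hA1.2 hc
      · rw [if_pos, neg_one_mul, hc]
        refine ⟨?_, hjump hj⟩
        rw [hAd, Finset.mem_filter, Finset.mem_filter, Multiset.mem_toFinset]
        refine ⟨⟨hjump hj, he⟩, fun h' => hR0 _ hT0 e he he0 ?_⟩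
        have : (2 : ℂ) * R μ e = 0 := by linear_combination hc - h'
        simpa using this
    · rintro ⟨x, hx, rfl⟩
      exact ⟨g x, (hΦ x).symm, (hg x hx).1⟩
  have hsplit : {C | ∃ g : Matrix.symplecticGroup (Fin m) F, ConjClasses.mk g = C ∧ orderOf g = p} =
      {C | ∃ g : Matrix.symplecticGroup (Fin m) F, ConjClasses.mk g = C ∧ g ^ p = 1} \ {ConjClasses.mk 1} := by
    ext C
    simp only [Set.mem_sdiff, Set.mem_ofPred_eq, Set.mem_singleton_iff]
    constructor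
    · rintro ⟨h, rfl, hh⟩
      refine ⟨⟨h, rfl, hh ▸ pow_orderOf_eq_one h⟩, fun he => ?_⟩
      rw [ConjClasses.mk_eq_mk_iff_isConj, isConj_one_left] at he
      rw [he, orderOf_one] at hh
      exact (Fact.out : p.Prime).ne_one hh.symm
    · rintro ⟨⟨h, rfl, hh⟩, hne⟩
      exact ⟨h, rfl, orderOf_eq_prime hh fun h1 => hne (by rw [h1])⟩
  have hone : ConjClasses.mk (1 : Matrix.symplecticGroup (Fin m) F) ∈
      {C | ∃ g : Matrix.symplecticGroup (Fin m) F, ConjClasses.mk g = C ∧ g ^ p = 1} := ⟨1, rfl, one_pow p⟩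
  rw [← Set.coe_ofPred, Nat.card_coe_set_eq, hsplit, Set.ncard_sdiff_singleton_of_mem hone, himg,
    Set.ncard_image_of_injOn hinjOn, Set.ncard_coe_finset, hcard]

end CfsgLib.Classical.SpOrderP
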